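import Cfsg.Agent.Mrg.Omega.Spread.Plug
import Cfsg.Agent.Mrg.Omega.NOThreeL.AFour.Final


/-!
# THEOREM R-LOW (#21762, helper597): the glue

* `Parts` : the parts RA, …, R3;
* `low_of` : in box R (some `C_Z(P) ≠ 1`), not (A), `V* = ⟨Z^M₀⟩` not FF: `V* ≤ Q`;
* `rlow` : the same without "not (A)" if not (A) is known.
-/

set_option autoImplicit false

namespace Cfsg.Agent.Omega.NOThreeL.RLow

open Subgroup Cfsg Cfsg.Agent.ZN Cfsg.Agent.Omega.MinPar Cfsg.Agent.Omega.Frame Cfsg.Agent.Omega.FrameNOFF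
open Cfsg.Agent.Omega.Node.NO3L (Data)
open Cfsg.Agent.Omega.NOThreeL.Basic (CaseA WP)
open Cfsg.Agent.Omega.NOThreeL.Merge (MZ)
open Cfsg.Agent.Omega.NOThreeL.Low (Blk Rtv Tor)
open Cfsg.Agent.Omega.NOne.Flat (Hyp EE WW NN BadX)
open Cfsg.Agent.Omega.NO3S (FFMod)
open Cfsg.Agent.Omega.FrameFF (cv)
open Cfsg.Agent.Omega.FFThm (OffM NatKM SymKM)
open scoped Pointwise

universe u

/-- All parts. -/
structure Parts : Prop where
  ra : StRA.{u}
  rb : StRB.{u}
  rc : StRC.{u}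
  rd : StRD.{u}
  re : StRE.{u}
  rf : StRF.{u}
  r2 : StR2.{u}
  r3 : StR3.{u}

variable {G : Type u} [Group G] [Finite G] {S : Sylow 2 G}

/-- Every bad line is natural with trivial radical. -/
theorem key (T : Parts.{u}) {V F B P : Subgroup G} (s : SitR S V F B P) :
    ∃ (K : Type) (_ : Field K) (_ : Finite K) (_ : CharP K 2) (k : ℕ), 0 < k ∧
      Nonempty (NatKM K (S : Subgroup G) P (zl (S : Subgroup G) P) ⊥ k) ∧ cv (S : Subgroup G) P = ⊥ := by
  obtain ⟨A, hA, hoff⟩ := T.ra G S V F B P s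
  have hSP : (S : Subgroup G) ≤ P := s.hP.le
  have hcon := (FFBr.ffthmM G S P (FFThm.syl_of_sylow S hSP) s.hP.toIsMinPar (s.hP.isLoc.char2 S s.ctx.char2)
    ⟨A, hA, hoff⟩).2
  rcases hcon with ⟨K, i1, i2, i3, k, hk, N⟩ | ⟨k, m, hk, hm, ⟨N⟩⟩
  · have hcv := T.rc G S V F B P s K k hk N
    refine ⟨K, i1, i2, i3, k, hk, ?_, hcv⟩
    rwa [hcv] at N
  · exact (T.rb G S V F B P s k m hk hm N).elim

/-- The bad line has `C_Z(P) = 1`. -/
theorem cz_eq (T : Parts.{u}) {V F B P : Subgroup G} (s : SitR S V F B P) :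
    zc (S : Subgroup G) ⊓ centralizer (P : Set G) = ⊥ := by
  obtain ⟨K, i1, i2, i3, k, hk, -, hcv⟩ := key T s
  have h1 : zc (S : Subgroup G) ⊓ centralizer (P : Set G) ≤ cv (S : Subgroup G) P := by
    refine inf_le_inf (MinSimple.VModule.zc_le_zl _ _) (centralizer_le ?_)
    exact MinSimple.VModule.oddGen_le P
  rwa [hcv, le_bot_iff] at h1

/-- There is no situation `SitG`, if there is a radical line. -/
theorem sit_false (T : Parts.{u}) {V F B P : Subgroup G} (s : SitG {Q | IsParS (S : Subgroup G) Q} S V F B P)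
    (hR : ∃ R, IsParS (S : Subgroup G) R ∧ zc (S : Subgroup G) ⊓ centralizer (R : Set G) ≠ ⊥) : False := by
  obtain ⟨R, hR, hz⟩ := hR
  -- the radical line is good
  have hRE : zl (S : Subgroup G) R ≤ EE V F := by
    by_contra hbad
    have s' : SitR S V F B R :=
      { s.toSitR with hP := hR, UV := s.LV R hR, bad := hbad, pt0 := s.ptA R hR hbad }
    exact hz (cz_eq T s')
  obtain ⟨K, i1, i2, i3, k, hk, ⟨N⟩, -⟩ := key T s.toSitR
  obtain ⟨i, β, n⟩ := T.rd G S V F B P s.toSitR K k N hk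
  rcases Nat.lt_or_ge 1 k with h2 | h1
  · exact T.r2 G S V F B P K k N i β n (T.rf G S V F B P K k N i β n) h2
  · obtain rfl : k = 1 := le_antisymm h1 hk
    obtain rfl : i = 0 := Subsingleton.elim _ _
    exact T.r3 G S V F B P K N β n (T.re G S V F B P K 1 N 0 β n) R hR hz (s.LV R hR) (s.good R hR hRE)

/-- **THEOREM R-LOW.** -/
theorem low_of (T : Parts.{u}) (hG : Ctx G) (hF : Full (S : Subgroup G)) (D : Data (S : Subgroup G))
    (hA : ¬ CaseA (S : Subgroup G))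
    (hR : ∃ R, IsParS (S : Subgroup G) R ∧ zc (S : Subgroup G) ⊓ centralizer (R : Set G) ≠ ⊥)
    (hff : ¬ FFMod (S : Subgroup G) (MZ (S : Subgroup G))) :
    zl (S : Subgroup G) (MZ (S : Subgroup G)) ≤ o2 (CZ (S : Subgroup G)) := by
  by_contra hlow
  obtain ⟨V, F, B, P, s⟩ := r1 G hG S hF D hA hR hff hlow
  exact sit_false T s hR

end Cfsg.Agent.Omega.NOThreeL.RLow
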