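import Cfsg.Agent.Mrg.Omega.NOThreeL.NF.Final
import Cfsg.Agent.Mrg.Omega.NOThreeL.MergeNF
import Cfsg.Agent.Mrg.Omega.NOThreeL.RTools.Two
import Cfsg.Agent.Mrg.Omega.Spread.Plug
import Cfsg.Agent.Mrg.Omega.NOThreeL.Low.Dich
import Cfsg.Agent.Mrg.Omega.NOne.Flat.Off
import Cfsg.Agent.Mrg.Omega.Half.Basic
import Cfsg.Agent.Mrg.Omega.NOThreeL.Low.Defs
import Cfsg.Agent.Mrg.Omega.NOThreeL.Low.Torus

section


/-!
# THEOREM R-LOW (#21762, helper597), the front for a set `Fa` of minimal parabolics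

The same as `Low/LA/Front.lean` for a subset `Fa` of `P*(S)`.

`S` a Sylow 2-subgroup, `M ≤ N_G(V)` a group containing all `P ∈ Fa`, `F` a maximal bad subgroup of `V`
(`Flat.Hyp V F`), `X = C_G(F)`, `R = O₂(X)`, `E = V ∩ R = EE V F`, `W = ⟨E^X⟩ = WW V F`.

A *chamber* is an element `g` of `M` (standing for `S^g = MulAut.conj g • S`); its lines are `V_P^g`,
`P ∈ Fa`; a line is *good* if it is contained in `E`.

* `Ch Fa M S W n g` : `g` is at gallery distance at most `n` from a chamber `a ∈ M` with `W ≤ S^a`;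
* `Fr S M V F n` : all lines of chambers at distance `< n` are good, `1` is at distance `≤ n`;
* `Fr.gal` : **(GAL)** good lines `l`, `l'` at distance `≤ n`, `x ∈ X`: `[l^x, l'] = 1`, `l^x ≤ S^g`;
* `BB M S V F n` : the group generated by the `X`-conjugates of the good lines of chambers at distance `≤ n`;
  `Fr.B_comm`, `Fr.B_sq`, `Fr.X_norm_B`, `Fr.B_le_W`, `Fr.B_le_conj`, `Fr.cent_le_conj`.
-/

set_option autoImplicit false

namespace Cfsg.Agent.Omega.NOThreeL.RLow.FP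

open Subgroup Cfsg Cfsg.Agent.ZN Cfsg.Agent.Omega.MinPar Cfsg.Agent.Omega.Frame
open Cfsg.Agent.Omega.FrameNOFF
open Cfsg.Agent.Omega.NoFF.Basic (V conj_conj mem_conj conj_le_iff conj_le_centralizer comm_symm comm_mono
  Z_le_V V_le conj_V_mul Sys Gal conj_Z_le conj_self)
open Cfsg.Agent.Omega.NOne.Flat (EE WW Bad)
open Cfsg.Agent.Omega.NOne.NearFF (c)
open Cfsg.Agent.MinSimple.VModule (zl_le le_normalizer_zl zc_le_zl zc_le zl_le_zc o2_isPGroup le_normalizer_o2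
  mem_zc le_o2 o2_le le_centralizer_zc zc_sq)
open scoped Pointwise

universe u

variable {G : Type u} [Group G]

/-- `g` is at distance at most `n` from a chamber `a ∈ M` with `W ≤ S^a`. -/
def Ch (Fa : Set (Subgroup G)) (M S W : Subgroup G) (n : ℕ) (g : G) : Prop :=
  ∃ a, a ∈ M ∧ W ≤ MulAut.conj a • S ∧ Gal Fa n a g

/-- The good lines of the chambers at distance `≤ n`. -/
def Gd (Fa : Set (Subgroup G)) (M S V F : Subgroup G) (n : ℕ) : Set (Subgroup G) :=
  {l | ∃ j ≤ n, ∃ g, Ch Fa M S (WW V F) j g ∧ ∃ P, P ∈ Fa ∧ l = MulAut.conj g • zl S P ∧ l ≤ EE V F}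

/-- `B`: generated by the `X`-conjugates of the good lines of the chambers at distance `≤ n`. -/
def BB (Fa : Set (Subgroup G)) (M S V F : Subgroup G) (n : ℕ) : Subgroup G :=
  sSup {A | ∃ l ∈ Gd Fa M S V F n, ∃ x ∈ centralizer (F : Set G), A = MulAut.conj x • l}

/-- **The front**: all lines of chambers at distance `< n` are good, `1` is at distance `≤ n`. -/
structure Fr [Finite G] (Fa : Set (Subgroup G)) (S : Sylow 2 G) (M V F : Subgroup G) (n : ℕ) : Prop where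
  hc : IsCharacteristicTwoType G
  noff : ¬ FF (S : Subgroup G)
  hyp : NOne.Flat.Hyp V F
  PP : ∀ P ∈ Fa, IsParS (S : Subgroup G) P
  PM : ∀ P ∈ Fa, P ≤ M
  MV : M ≤ normalizer (V : Set G)
  ZV : zc (S : Subgroup G) ≤ V
  least : ∀ j < n, ∀ g, Ch Fa M (S : Subgroup G) (WW V F) j g → ∀ P ∈ Fa,
    MulAut.conj g • zl (S : Subgroup G) P ≤ EE V F
  one : Ch Fa M (S : Subgroup G) (WW V F) n 1

/-! ### chambers -/

section ch

variable {Fa : Set (Subgroup G)} {M S W : Subgroup G}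

theorem Ch.mul {n : ℕ} {g : G} (h : Ch Fa M S W n g) {P : Subgroup G} (hP : P ∈ Fa) {p : G} (hp : p ∈ P) :
    Ch Fa M S W (n + 1) (g * p) := by
  obtain ⟨a, ha, haW, hg⟩ := h
  exact ⟨a, ha, haW, hg.step hP hp⟩

theorem Ch.mem (hM : ∀ P ∈ Fa, P ≤ M) {n : ℕ} {g : G} (h : Ch Fa M S W n g) : g ∈ M := by
  obtain ⟨a, ha, -, hg⟩ := h
  induction hg with
  | zero => exact ha
  | step _ hP hp ih => exact mul_mem (ih ha) (hM _ hP hp)

theorem Ch.zero_le {g : G} (h : Ch Fa M S W 0 g) : W ≤ MulAut.conj g • S := by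
  obtain ⟨a, _, haW, hg⟩ := h
  cases hg
  exact haW

/-- the last step of a gallery -/
theorem Ch.last {n : ℕ} {g : G} (h : Ch Fa M S W (n + 1) g) :
    ∃ P, P ∈ Fa ∧ ∃ p ∈ P, ∃ g', Ch Fa M S W n g' ∧ g = g' * p := by
  obtain ⟨a, ha, haW, hg⟩ := h
  cases hg with
  | @step _ _ g' p P hg hP hp => exact ⟨P, hP, p, hp, g', ⟨a, ha, haW, hg⟩, rfl⟩

theorem Ch.mono {n k : ℕ} (hnk : n ≤ k) (hne : Fa.Nonempty) {g : G} (h : Ch Fa M S W n g) :
    Ch Fa M S W k g := by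
  obtain ⟨P, hP⟩ := hne
  induction hnk with
  | refl => exact h
  | step _ ih =>
    have := ih.mul hP (one_mem P)
    rwa [mul_one] at this

end ch

namespace Fr

variable [Finite G] {Fa : Set (Subgroup G)} {S : Sylow 2 G} {M V F : Subgroup G} {n : ℕ} (h : Fr Fa S M V F n)
include h

theorem sys : Sys (S : Subgroup G) (zc (S : Subgroup G)) (PS (S : Subgroup G)) :=
  FrameNOFF.sys h.hc S h.noff

/-- `C_{S^g}(V_P^g) ≤ S^{gp}` -/
theorem pass {P : Subgroup G} (hP : P ∈ Fa) {g p : G} (hp : p ∈ P) {A : Subgroup G}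
    (hA : A ≤ MulAut.conj g • (S : Subgroup G))
    (hc : A ≤ centralizer ((MulAut.conj g • zl (S : Subgroup G) P : Subgroup G) : Set G)) :
    A ≤ MulAut.conj (g * p) • (S : Subgroup G) :=
  h.sys.pass (h.PP P hP) hp hA fun _ hp' => comm_mono hc le_rfl (conj_Z_le hp')

theorem zl_le_V {P : Subgroup G} (hP : P ∈ Fa) : zl (S : Subgroup G) P ≤ V :=
  MinSimple.VModule.zl_le h.ZV ((h.PM P hP).trans h.MV)

theorem conj_V {g : G} (hg : g ∈ M) : MulAut.conj g • V = V := NOne.Flat.conj_eq_of_norm (h.MV hg)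

theorem line_le_V {g : G} (hg : g ∈ M) {P : Subgroup G} (hP : P ∈ Fa) :
    MulAut.conj g • zl (S : Subgroup G) P ≤ V := by
  rw [← h.conj_V hg]
  exact conj_le_iff.2 (h.zl_le_V hP)

theorem mem_M {j : ℕ} {g : G} (hg : Ch Fa M (S : Subgroup G) (WW V F) j g) : g ∈ M := hg.mem h.PM

omit [Finite G] h in
theorem conj_conj_inv (x : G) (A : Subgroup G) : MulAut.conj x • (MulAut.conj x⁻¹ • A) = A := by
  rw [conj_conj, mul_inv_cancel, map_one, one_smul]

/-- `l^x ≤ S^{g'}`, from (GAL) for smaller distances -/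
theorem gal_le {k : ℕ} (ih : ∀ m < k, ∀ i j : ℕ, i + j = m → i ≤ n → j ≤ n → ∀ g g' : G,
    Ch Fa M (S : Subgroup G) (WW V F) i g → Ch Fa M (S : Subgroup G) (WW V F) j g' →
    ∀ P P' : Subgroup G, P ∈ Fa → P' ∈ Fa →
    MulAut.conj g • zl (S : Subgroup G) P ≤ EE V F → MulAut.conj g' • zl (S : Subgroup G) P' ≤ EE V F →
    ∀ x ∈ centralizer (F : Set G),
      MulAut.conj (x * g) • zl (S : Subgroup G) P ≤
        centralizer ((MulAut.conj g' • zl (S : Subgroup G) P' : Subgroup G) : Set G))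
    {i : ℕ} (hi : i ≤ n) {g : G} (hg : Ch Fa M (S : Subgroup G) (WW V F) i g)
    {P : Subgroup G} (hP : P ∈ Fa) (hl : MulAut.conj g • zl (S : Subgroup G) P ≤ EE V F)
    {x : G} (hx : x ∈ centralizer (F : Set G)) :
    ∀ j : ℕ, i + j ≤ k → j ≤ n → ∀ g' : G, Ch Fa M (S : Subgroup G) (WW V F) j g' →
      MulAut.conj (x * g) • zl (S : Subgroup G) P ≤ MulAut.conj g' • (S : Subgroup G) := by
  intro j
  induction j with
  | zero =>
    intro _ _ g' hg'
    refine le_trans ?_ hg'.zero_le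
    rw [← conj_conj]
    exact (conj_le_iff.2 hl).trans (NOne.Flat.Hyp.conjE_le_W hx)
  | succ j ihj =>
    intro hij hj g' hg'
    obtain ⟨P', hP', p, hp, g'', hg'', rfl⟩ := hg'.last
    have h1 := h.least j (by omega) g'' hg'' P' hP'
    have h2 := ih (i + j) (by omega) i j rfl hi (by omega) g g'' hg hg'' P P' hP hP' hl h1 x hx
    exact h.pass hP' hp (ihj (by omega) (by omega) g'' hg'') h2

/-- **(GAL)** -/
theorem gal_aux (k : ℕ) : ∀ i j : ℕ, i + j = k → i ≤ n → j ≤ n → ∀ g g' : G,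
    Ch Fa M (S : Subgroup G) (WW V F) i g → Ch Fa M (S : Subgroup G) (WW V F) j g' →
    ∀ P P' : Subgroup G, P ∈ Fa → P' ∈ Fa →
    MulAut.conj g • zl (S : Subgroup G) P ≤ EE V F → MulAut.conj g' • zl (S : Subgroup G) P' ≤ EE V F →
    ∀ x ∈ centralizer (F : Set G),
      MulAut.conj (x * g) • zl (S : Subgroup G) P ≤
        centralizer ((MulAut.conj g' • zl (S : Subgroup G) P' : Subgroup G) : Set G) := by
  induction k using Nat.strong_induction_on with
  | _ k ih =>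
    intro i j hij hi hj g g' hg hg' P P' hP hP' hl hl' x hx
    have h1 := h.gal_le ih hi hg hP hl hx j (by omega) hj g' hg'
    have h2 := h.gal_le ih hj hg' hP' hl' (inv_mem hx) i (by omega) hi g hg
    refine h.sys.noff' (h.PP P hP) (h.PP P' hP') (h1.trans (conj_le_iff.2 (h.PP P' hP').le)) ?_
    have h3 := conj_le_iff (g := x).2 h2
    rw [conj_conj, conj_conj, mul_inv_cancel_left] at h3
    exact h3.trans (conj_le_iff.2 (h.PP P hP).le)

/-- **(GAL)**: good lines at distance `≤ n`: `[l^x, l'] = 1` for `x ∈ X`. -/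
theorem gal {i j : ℕ} (hi : i ≤ n) (hj : j ≤ n) {g g' : G} (hg : Ch Fa M (S : Subgroup G) (WW V F) i g)
    (hg' : Ch Fa M (S : Subgroup G) (WW V F) j g') {P P' : Subgroup G} (hP : P ∈ Fa)
    (hP' : P' ∈ Fa) (hl : MulAut.conj g • zl (S : Subgroup G) P ≤ EE V F)
    (hl' : MulAut.conj g' • zl (S : Subgroup G) P' ≤ EE V F) {x : G} (hx : x ∈ centralizer (F : Set G)) :
    MulAut.conj (x * g) • zl (S : Subgroup G) P ≤
      centralizer ((MulAut.conj g' • zl (S : Subgroup G) P' : Subgroup G) : Set G) :=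
  h.gal_aux _ i j rfl hi hj g g' hg hg' P P' hP hP' hl hl' x hx

/-- **(GAL)**: `l^x ≤ S^{g'}`. -/
theorem gal_le_S {i j : ℕ} (hi : i ≤ n) (hj : j ≤ n) {g g' : G} (hg : Ch Fa M (S : Subgroup G) (WW V F) i g)
    (hg' : Ch Fa M (S : Subgroup G) (WW V F) j g') {P : Subgroup G} (hP : P ∈ Fa)
    (hl : MulAut.conj g • zl (S : Subgroup G) P ≤ EE V F) {x : G} (hx : x ∈ centralizer (F : Set G)) :
    MulAut.conj (x * g) • zl (S : Subgroup G) P ≤ MulAut.conj g' • (S : Subgroup G) :=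
  h.gal_le (k := i + j) (fun m _ => h.gal_aux m) hi hg hP hl hx j le_rfl hj g' hg'

/-! ### the group `B` -/

omit [Finite G] h in
theorem le_BB {l : Subgroup G} (hl : l ∈ Gd Fa M (S : Subgroup G) V F n) {x : G}
    (hx : x ∈ centralizer (F : Set G)) : MulAut.conj x • l ≤ BB Fa M (S : Subgroup G) V F n :=
  le_sSup ⟨l, hl, x, hx, rfl⟩

omit [Finite G] h in
theorem le_BB' {l : Subgroup G} (hl : l ∈ Gd Fa M (S : Subgroup G) V F n) :
    l ≤ BB Fa M (S : Subgroup G) V F n := by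
  have := le_BB hl (one_mem (centralizer (F : Set G)))
  rwa [map_one, one_smul] at this

omit [Finite G] h in
theorem BB_le {A : Subgroup G} (hA : ∀ l ∈ Gd Fa M (S : Subgroup G) V F n, ∀ x ∈ centralizer (F : Set G),
    MulAut.conj x • l ≤ A) : BB Fa M (S : Subgroup G) V F n ≤ A :=
  sSup_le (by rintro _ ⟨l, hl, x, hx, rfl⟩; exact hA l hl x hx)

omit [Finite G] h in
theorem mem_Gd {j : ℕ} (hj : j ≤ n) {g : G} (hg : Ch Fa M (S : Subgroup G) (WW V F) j g) {P : Subgroup G}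
    (hP : P ∈ Fa) (hl : MulAut.conj g • zl (S : Subgroup G) P ≤ EE V F) :
    MulAut.conj g • zl (S : Subgroup G) P ∈ Gd Fa M (S : Subgroup G) V F n :=
  ⟨j, hj, g, hg, P, hP, rfl, hl⟩

/-- a line of a chamber at distance `< n` -/
theorem mem_Gd_of_lt {j : ℕ} (hj : j < n) {g : G} (hg : Ch Fa M (S : Subgroup G) (WW V F) j g)
    {P : Subgroup G} (hP : P ∈ Fa) :
    MulAut.conj g • zl (S : Subgroup G) P ∈ Gd Fa M (S : Subgroup G) V F n :=
  mem_Gd hj.le hg hP (h.least j hj g hg P hP)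

omit [Finite G] h in
theorem conj_BB {y : G} (hy : y ∈ centralizer (F : Set G)) :
    MulAut.conj y • BB Fa M (S : Subgroup G) V F n = BB Fa M (S : Subgroup G) V F n := by
  have key : ∀ y ∈ centralizer (F : Set G),
      BB Fa M (S : Subgroup G) V F n ≤ MulAut.conj y • BB Fa M (S : Subgroup G) V F n := by
    intro y hy
    refine BB_le fun l hl x hx => ?_
    have h1 := le_BB hl (mul_mem (inv_mem hy) hx)
    have h2 := conj_le_iff (g := y).2 h1
    rwa [conj_conj, mul_inv_cancel_left] at h2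
  refine le_antisymm ?_ (key y hy)
  have h1 := conj_le_iff (g := y).2 (key y⁻¹ (inv_mem hy))
  rwa [conj_conj_inv] at h1

omit [Finite G] h in
/-- `X` normalises `B`. -/
theorem X_norm_B : centralizer (F : Set G) ≤ normalizer (BB Fa M (S : Subgroup G) V F n : Set G) := by
  intro y hy
  rw [mem_normalizer_iff]
  intro b
  constructor
  · intro hb
    rw [← conj_BB hy, mem_conj]
    simpa [mul_assoc] using hb
  · intro hb
    rw [← conj_BB hy, mem_conj] at hb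
    simpa [mul_assoc] using hb

omit [Finite G] h in
/-- `B ≤ W` -/
theorem B_le_W : BB Fa M (S : Subgroup G) V F n ≤ WW V F := by
  refine BB_le ?_
  rintro _ ⟨j, -, g, -, P, -, rfl, hl⟩ x hx
  exact (conj_le_iff.2 hl).trans (NOne.Flat.Hyp.conjE_le_W hx)

/-- `B` is abelian. -/
theorem B_comm : BB Fa M (S : Subgroup G) V F n ≤ centralizer (BB Fa M (S : Subgroup G) V F n : Set G) := by
  refine BB_le ?_
  rintro _ ⟨i, hi, g, hg, P, hP, rfl, hl⟩ x hx
  refine comm_symm (BB_le ?_)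
  rintro _ ⟨j, hj, g', hg', P', hP', rfl, hl'⟩ x' hx'
  refine comm_symm ?_
  have h1 := h.gal hi hj hg hg' hP hP' hl hl' (mul_mem (inv_mem hx') hx)
  have h2 := conj_le_centralizer (g := x') h1
  rwa [conj_conj, ← mul_assoc, mul_inv_cancel_left, ← conj_conj] at h2

theorem B_sq : ∀ b ∈ BB Fa M (S : Subgroup G) V F n, b ^ 2 = 1 := by
  let K : Subgroup G :=
    { carrier := {b | b ∈ BB Fa M (S : Subgroup G) V F n ∧ b ^ 2 = 1}
      one_mem' := ⟨one_mem _, one_pow _⟩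
      mul_mem' := by
        rintro a b ⟨ha, ha2⟩ ⟨hb, hb2⟩
        refine ⟨mul_mem ha hb, ?_⟩
        have hcm : Commute a b := (mem_centralizer_iff.1 (h.B_comm ha) b hb).symm
        rw [hcm.mul_pow, ha2, hb2, one_mul]
      inv_mem' := by
        rintro a ⟨ha, ha2⟩
        exact ⟨inv_mem ha, by rw [inv_pow, ha2, inv_one]⟩ }
  have h1 : BB Fa M (S : Subgroup G) V F n ≤ K := by
    refine BB_le fun l hl x hx => ?_
    intro b hb
    refine ⟨le_BB hl hx hb, ?_⟩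
    obtain ⟨j, -, g, -, P, -, rfl, hl'⟩ := hl
    rw [mem_conj] at hb
    have h2 := h.hyp.sq _ (hl' hb).1
    have e : b ^ 2 = x * (x⁻¹ * b * x) ^ 2 * x⁻¹ := by rw [pow_two, pow_two]; group
    rw [e, h2]; group
  exact fun b hb => (h1 hb).2

/-- `B ≤ S^g` for every chamber `g` at distance `≤ n`. -/
theorem B_le_conj {j : ℕ} (hj : j ≤ n) {g : G} (hg : Ch Fa M (S : Subgroup G) (WW V F) j g) :
    BB Fa M (S : Subgroup G) V F n ≤ MulAut.conj g • (S : Subgroup G) := by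
  refine BB_le ?_
  rintro _ ⟨i, hi, g', hg', P, hP, rfl, hl⟩ x hx
  rw [conj_conj]
  exact h.gal_le_S hi hj hg' hg hP hl hx

/-- `B ≤ S` -/
theorem B_le_S : BB Fa M (S : Subgroup G) V F n ≤ (S : Subgroup G) := by
  have := h.B_le_conj le_rfl h.one
  rwa [map_one, one_smul] at this

/-- A subgroup of `W` which centralises `B` is contained in `S^g` for every chamber `g` at distance `≤ n`. -/
theorem le_conj_of_cent {A : Subgroup G} (hA : A ≤ WW V F)
    (hAB : A ≤ centralizer (BB Fa M (S : Subgroup G) V F n : Set G)) :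
    ∀ j ≤ n, ∀ g : G, Ch Fa M (S : Subgroup G) (WW V F) j g → A ≤ MulAut.conj g • (S : Subgroup G) := by
  intro j
  induction j with
  | zero =>
    intro _ g hg
    exact hA.trans hg.zero_le
  | succ j ih =>
    intro hj g hg
    obtain ⟨P, hP, p, hp, g', hg', rfl⟩ := hg.last
    refine h.pass hP hp (ih (by omega) g' hg') ?_
    exact comm_mono hAB le_rfl (le_BB' (h.mem_Gd_of_lt (by omega) hg' hP))

/-- `C_W(B) ≤ S` -/
theorem cent_le_S : WW V F ⊓ centralizer (BB Fa M (S : Subgroup G) V F n : Set G) ≤ (S : Subgroup G) := by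
  have := h.le_conj_of_cent inf_le_left inf_le_right n le_rfl 1 h.one
  rwa [map_one, one_smul] at this

/-! ### (B1) -/

theorem B_norm_V : BB Fa M (S : Subgroup G) V F n ≤ normalizer (V : Set G) := B_le_W.trans h.hyp.W_norm_V

theorem V_norm_B : V ≤ normalizer (BB Fa M (S : Subgroup G) V F n : Set G) := h.hyp.V_le_X.trans X_norm_B

/-- **(B1)** `[V, B] ≤ V ∩ B` -/
theorem comm_VB {v b : G} (hv : v ∈ V) (hb : b ∈ BB Fa M (S : Subgroup G) V F n) :
    c v b ∈ V ⊓ BB Fa M (S : Subgroup G) V F n := by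
  refine ⟨h.hyp.c_memV hv (B_le_W hb), ?_⟩
  have h1 := (mem_normalizer_iff.1 (h.V_norm_B hv) b).1 hb
  have e : c v b = v * b * v⁻¹ * b⁻¹ := NOne.NearFF.c_def v b
  rw [e]
  exact (BB Fa M (S : Subgroup G) V F n).mul_mem h1 ((BB Fa M (S : Subgroup G) V F n).inv_mem hb)

/-- the adjacent chamber at distance `n - 1` -/
theorem exists_adj {k : ℕ} (hn : n = k + 1) : ∃ R, R ∈ Fa ∧ ∃ m ∈ R,
    Ch Fa M (S : Subgroup G) (WW V F) k m := by
  have h1 := h.one
  rw [hn] at h1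
  obtain ⟨R, hR, p, hp, g, hg, e⟩ := h1.last
  have e2 : g = p⁻¹ := eq_inv_of_mul_eq_one_left e.symm
  refine ⟨R, hR, p⁻¹, R.inv_mem hp, ?_⟩
  rwa [← e2]

end Fr

end Cfsg.Agent.Omega.NOThreeL.RLow.FP

end

section


/-!
# THEOREM R-LOW, the front for a family `Fa` of minimal parabolics and a root `L = ⟨Fa⟩`

* `exists_gal` : galleries;
* `exists_fr_of` : the front;
* `sit_of` : the situation `SitG Fa S V F B P`;
* `exists_sit` : if the root module `⟨Z^L⟩` is not FF and not in `Q`, then there is a situation.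
-/

set_option autoImplicit false

namespace Cfsg.Agent.Omega.NOThreeL.RLow.FL

open Subgroup Cfsg
open Cfsg.Agent.ZN hiding mem_zc le_o2 le_normalizer_o2 zl_le
open Cfsg.Agent.Omega.MinPar Cfsg.Agent.Omega.Frame
open Cfsg.Agent.Omega.FrameNOFF
open Cfsg.Agent.Omega.NoFF.Basic (conj_conj mem_conj conj_le_iff conj_le_centralizer comm_symm comm_mono Gal)
open Cfsg.Agent.Omega.NOne.Flat (EE WW Hyp)
open Cfsg.Agent.Omega.NOThreeL.Basic (CaseA WP zl_le_WP)
open Cfsg.Agent.Omega.NOThreeL.Pair (conj_eq_of_mem)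
open Cfsg.Agent.Omega.NO3b (Wc.Root Wc.VL Wc.ML)
open Cfsg.Agent.Omega.Node.NO3L
open Cfsg.Agent.Omega.NOThreeL.Low (zc_ne_bot exists_max_bad)
open Cfsg.Agent.Omega.NOThreeL.RLow.FP
open Cfsg.Agent.ZN.ChoiceBase (isPGroup_cj cj)
open Cfsg.Agent.MinSimple.VModule (zc_le_zl zc_le zl_le_zc o2_isPGroup le_normalizer_o2
  mem_zc le_o2 o2_le le_centralizer_zc zc_sq)
open scoped Pointwise

universe u

variable {G : Type u} [Group G]

/-- The elements of `⟨Fa⟩` are reached by galleries. -/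
theorem exists_gal {Fa : Set (Subgroup G)} {y : G} (hy : y ∈ sSup Fa) : ∃ k, Gal Fa k 1 y := by
  have hy' : y ∈ ⨆ P : {P : Subgroup G // P ∈ Fa}, (P : Subgroup G) := by
    rwa [sSup_eq_iSup'] at hy
  refine Subgroup.iSup_induction (S := fun P : {P : Subgroup G // P ∈ Fa} => (P : Subgroup G))
    (C := fun y => ∃ k, Gal Fa k 1 y) hy' ?_ ?_ ?_
  · rintro ⟨P, hP⟩ p hp
    have := Gal.one (F := Fa) hP (g := 1) hp
    rw [one_mul] at this
    exact ⟨1, this⟩
  · exact ⟨0, Gal.zero _⟩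
  · rintro x y ⟨k, hk⟩ ⟨l, hl⟩
    have h1 := hl.mul_left x
    rw [mul_one] at h1
    exact ⟨k + l, hk.trans h1⟩

section sup

variable [Finite G] {Fa : Set (Subgroup G)} {S : Sylow 2 G} {M V F : Subgroup G} {n : ℕ}

omit [Finite G] in
/-- `B` centralises `F`. -/
theorem B_cent_F : BB Fa M (S : Subgroup G) V F n ≤ centralizer (F : Set G) :=
  Fr.B_le_W.trans Hyp.W_le_X

theorem sup_comm' (h : Fr Fa S M V F n) : BB Fa M (S : Subgroup G) V F n ⊔ F ≤
    centralizer ((BB Fa M (S : Subgroup G) V F n ⊔ F : Subgroup G) : Set G) := by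
  have hFF : F ≤ centralizer (F : Set G) := h.hyp.F_le_V.trans h.hyp.V_le_X
  refine sup_le (comm_symm (sup_le h.B_comm (comm_symm B_cent_F)))
    (comm_symm (sup_le B_cent_F hFF))

theorem sup_sq (h : Fr Fa S M V F n) : ∀ b ∈ BB Fa M (S : Subgroup G) V F n ⊔ F, b ^ 2 = 1 := by
  intro b hb
  have h1 : BB Fa M (S : Subgroup G) V F n ≤ normalizer (F : Set G) :=
    B_cent_F.trans (centralizer_le_normalizer _)
  rw [← SetLike.mem_coe, Subgroup.coe_mul_of_left_le_normalizer_right _ _ h1, Set.mem_mul] at hb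
  obtain ⟨a, ha, f, hf, rfl⟩ := hb
  have hcm : Commute a f := (mem_centralizer_iff.1 (B_cent_F ha) f hf).symm
  rw [hcm.mul_pow, h.B_sq a ha, h.hyp.sq f (h.hyp.F_le_V hf), one_mul]

omit [Finite G] in
theorem X_norm_sup : centralizer (F : Set G) ≤
    normalizer ((BB Fa M (S : Subgroup G) V F n ⊔ F : Subgroup G) : Set G) := by
  intro x hx
  have h1 : MulAut.conj x • (BB Fa M (S : Subgroup G) V F n ⊔ F) = BB Fa M (S : Subgroup G) V F n ⊔ F := by
    rw [Subgroup.smul_sup, Fr.conj_BB hx, NOne.Flat.conj_eq_of_cent hx]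
  rw [mem_normalizer_iff]
  intro b
  constructor
  · intro hb
    rw [← h1, mem_conj]
    simpa [mul_assoc] using hb
  · intro hb
    rw [← h1, mem_conj] at hb
    simpa [mul_assoc] using hb

end sup

variable [Finite G] {S : Sylow 2 G} {Fa : Set (Subgroup G)}

/-- **The front exists**, for any frame `V`, `F` with `W_F ≤ S`, `⟨Z^L⟩ ≰ E`, `L = ⟨Fa⟩`. -/
theorem exists_fr_of (hG : Ctx G) (D : Data (S : Subgroup G)) (hA : ¬ CaseA (S : Subgroup G))
    (hFa : ∀ P ∈ Fa, IsParS (S : Subgroup G) P) (hne : Fa.Nonempty) {V F : Subgroup G} (hyp : Hyp V F)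
    (hMV : sSup Fa ≤ normalizer (V : Set G)) (hZV : zc (S : Subgroup G) ≤ V)
    (hWS : WW V F ≤ (S : Subgroup G)) (hnE : ¬ zl (S : Subgroup G) (sSup Fa) ≤ EE V F) :
    ∃ (F' : Subgroup G) (n : ℕ) (P : Subgroup G), Fr Fa S (sSup Fa) V F' (n + 1) ∧
      P ∈ Fa ∧ ¬ zl (S : Subgroup G) P ≤ EE V F' := by
  have hPM : ∀ P ∈ Fa, P ≤ sSup Fa := fun P hP => le_sSup hP
  obtain ⟨P₀, hP₀⟩ := hne
  -- some chamber has a bad line
  have hex : ∃ n : ℕ, ∃ g, Ch Fa (sSup Fa) (S : Subgroup G) (WW V F) n g ∧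
      ∃ P, P ∈ Fa ∧ ¬ MulAut.conj g • zl (S : Subgroup G) P ≤ EE V F := by
    by_contra hcon
    push Not at hcon
    apply hnE
    refine iSup_le fun y => ?_
    obtain ⟨k, hk⟩ := exists_gal y.2
    have h1 := hcon k y ⟨1, one_mem _, by rwa [map_one, one_smul], hk⟩ P₀ hP₀
    exact (conj_le_iff.2 (zc_le_zl (S : Subgroup G) P₀)).trans h1
  classical
  obtain ⟨g, hg, P, hP, hPE⟩ := Nat.find_spec hex
  have hmin := fun j (hj : j < Nat.find hex) => Nat.find_min hex hj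
  set n := Nat.find hex with hn
  have hgM := hg.mem hPM
  have hgV := hMV hgM
  have hgV' : g⁻¹ ∈ normalizer (V : Set G) := inv_mem hgV
  have eW : WW V (MulAut.conj g⁻¹ • F) = MulAut.conj g⁻¹ • WW V F := (NOne.Flat.WW_conj hgV').symm
  have eE : EE V (MulAut.conj g⁻¹ • F) = MulAut.conj g⁻¹ • EE V F := (NOne.Flat.EE_conj hgV').symm
  -- chambers for `F^{g⁻¹}`
  have hCh : ∀ j x, Ch Fa (sSup Fa) (S : Subgroup G) (WW V (MulAut.conj g⁻¹ • F)) j x →
      Ch Fa (sSup Fa) (S : Subgroup G) (WW V F) j (g * x) := by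
    rintro j x ⟨a, ha, haW, hax⟩
    refine ⟨g * a, mul_mem hgM ha, ?_, hax.mul_left g⟩
    rw [eW] at haW
    have h1 := conj_le_iff (g := g).2 haW
    rwa [conj_conj, mul_inv_cancel, map_one, one_smul, conj_conj] at h1
  have hCh' : Ch Fa (sSup Fa) (S : Subgroup G) (WW V (MulAut.conj g⁻¹ • F)) n 1 := by
    obtain ⟨a, ha, haW, hag⟩ := hg
    refine ⟨g⁻¹ * a, mul_mem (inv_mem hgM) ha, ?_, ?_⟩
    · rw [eW, ← conj_conj]
      exact conj_le_iff.2 haW
    · have := hag.mul_left g⁻¹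
      rwa [inv_mul_cancel] at this
  have hbad : ¬ zl (S : Subgroup G) P ≤ EE V (MulAut.conj g⁻¹ • F) := by
    intro h1
    apply hPE
    rw [eE] at h1
    have h2 := conj_le_iff (g := g).2 h1
    rwa [conj_conj, mul_inv_cancel, map_one, one_smul] at h2
  have hyp' := hyp.conj hgV'
  have hfr : Fr Fa S (sSup Fa) V (MulAut.conj g⁻¹ • F) n := by
    refine ⟨hG.char2, D.noff, hyp', hFa, hPM, hMV, hZV, ?_, hCh'⟩
    intro j hj x hx Q hQ
    by_contra hcon
    refine hmin j hj ⟨g * x, hCh j x hx, Q, hQ, fun h1 => hcon ?_⟩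
    rw [eE]
    have h2 := conj_le_iff (g := g⁻¹).2 h1
    rwa [conj_conj, inv_mul_cancel_left] at h2
  rcases Nat.eq_zero_or_pos n with h0 | h0
  · -- distance 0: `Z ≤ F`
    exfalso
    rw [h0] at hCh'
    have hWS' := hCh'.zero_le
    rw [map_one, one_smul] at hWS'
    have hZF : zc (S : Subgroup G) ≤ MulAut.conj g⁻¹ • F := by
      rw [← hyp'.cent_VW]
      refine le_inf hZV (comm_symm (hWS'.trans ?_))
      exact fun s hs => mem_centralizer_iff.mpr fun z hz => ((mem_zc.mp hz).2.1 s hs).symm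
    refine hbad (good_of_ne D hA hyp' (hFa P hP) (hfr.zl_le_V hP) (g := 1) (one_mem _) ?_)
    rw [map_one, one_smul, inf_eq_left.2 hZF]
    exact zc_ne_bot hG
  · obtain ⟨m, hm⟩ : ∃ m, n = m + 1 := ⟨n - 1, by omega⟩
    rw [hm] at hfr
    exact ⟨_, m, P, hfr, hP, hbad⟩

/-- The situation, from the front. -/
theorem sit_of (hG : Ctx G) (D : Data (S : Subgroup G))
    (hA : ¬ CaseA (S : Subgroup G)) {M V F P : Subgroup G} {k : ℕ} (hVS : V ≤ (S : Subgroup G))
    (h : Fr Fa S M V F (k + 1)) (hP : P ∈ Fa)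
    (hPE : ¬ zl (S : Subgroup G) P ≤ EE V F) (hc : 2 < Nat.card (zc (S : Subgroup G))) :
    SitG Fa S V F (BB Fa M (S : Subgroup G) V F (k + 1) ⊔ F) P := by
  obtain ⟨R, hR, m, hm, hCm⟩ := h.exists_adj rfl
  have c1 : BB Fa M (S : Subgroup G) V F (k + 1) ⊔ F ≤ WW V F :=
    sup_le Fr.B_le_W (h.hyp.F_le_E.trans Hyp.E_le_W)
  have c2 : BB Fa M (S : Subgroup G) V F (k + 1) ⊔ F ≤ (S : Subgroup G) :=
    sup_le h.B_le_S (h.hyp.F_le_V.trans hVS)
  have c3 : WW V F ⊓ centralizer ((BB Fa M (S : Subgroup G) V F (k + 1) ⊔ F :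
      Subgroup G) : Set G) ≤ (S : Subgroup G) := by
    refine le_trans (inf_le_inf_left _ (centralizer_le ?_)) h.cent_le_S
    exact SetLike.coe_subset_coe.2 le_sup_left
  have hgood : ∀ Q ∈ Fa, zl (S : Subgroup G) Q ≤ EE V F →
      zl (S : Subgroup G) Q ≤ BB Fa M (S : Subgroup G) V F (k + 1) ⊔ F := by
    intro Q hQ hQE
    have h1 := Fr.mem_Gd (M := M) (n := k + 1) le_rfl h.one hQ
      (by rwa [map_one, one_smul])
    rw [map_one, one_smul] at h1
    exact (Fr.le_BB' h1).trans le_sup_left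
  have hRE : zl (S : Subgroup G) R ≤ EE V F := by
    have h1 := h.least k (Nat.lt_succ_self k) m hCm R hR
    rwa [zl_conj_eq hm] at h1
  have hpt : ∀ Q ∈ Fa, ¬ zl (S : Subgroup G) Q ≤ EE V F → ∀ g ∈ Q,
      MulAut.conj g • zc (S : Subgroup G) ⊓ F = ⊥ := by
    intro Q hQ hQE g hg
    by_contra hne
    exact hQE (good_of_ne D hA h.hyp (h.PP Q hQ) (h.zl_le_V hQ) hg hne)
  exact ⟨⟨hG, D, hA, h.hyp, hVS, h.PP P hP, h.zl_le_V hP, hPE, le_sup_right, c1,
    X_norm_sup, sup_comm' h, sup_sq h, c2, c3, (zc_le_zl _ R).trans (hgood R hR hRE), hpt P hP hPE, hc⟩,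
    fun Q hQ => h.zl_le_V hQ, hgood, hpt⟩

/-- **The situation exists**, for a root `L = ⟨Fa⟩` with `⟨Z^L⟩ ≰ Q`. -/
theorem exists_sit (hG : Ctx G) (D : Data (S : Subgroup G)) (hA : ¬ CaseA (S : Subgroup G))
    (hFa : ∀ P ∈ Fa, IsParS (S : Subgroup G) P) (hne : Fa.Nonempty)
    (root : Wc.Root S (sSup Fa)) (hc : 2 < Nat.card (zc (S : Subgroup G)))
    (hlow : ¬ zl (S : Subgroup G) (sSup Fa) ≤ o2 (CZ (S : Subgroup G))) :
    ∃ V F B P, P ∈ Fa ∧ SitG Fa S V F B P := by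
  obtain ⟨F, hyp, hWS, hWL⟩ := exists_max_bad root hG.char2 (F₀ := zc (S : Subgroup G))
    ⟨zc_ne_bot hG, NO3b.Wc.Root.zc_le_V, fun h1 => hlow (root.zl_le_V.trans h1)⟩
  have hnE : ¬ zl (S : Subgroup G) (sSup Fa) ≤ EE (Wc.VL (S : Subgroup G) (sSup Fa)) F := fun h1 =>
    hWL (hyp.cent_of_le_EE (Spread.Plug.stmtOff G _ _ hyp) (root.not_offM hWS) h1).1
  obtain ⟨F', n, P, h, hP, hPE⟩ := exists_fr_of hG D hA hFa hne hyp
    (root.L_le.trans (NO3b.Wc.ML_le_norm_V _ _)) NO3b.Wc.Root.zc_le_V hWS hnE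
  exact ⟨_, F', _, P, hP, sit_of hG D hA root.V_le_S h hP hPE hc⟩

end Cfsg.Agent.Omega.NOThreeL.RLow.FL

end

section


/-!
# THEOREM R-LOW (#21762), part RA: the bad line `U = V_P` is FF

* `SitR.zc_inf`, `SitR.not_le` : `Z ∩ F = 1`, `V ∩ B ≰ F`; `SitR.not_notFF` : `V_P` is FF;
* `ra` : **RA**; `SitR.concl` : the FF theorem for `V_P` (with the radical `cv S P`);
* `SitR.card_le`, `SitR.two_lt` : `|Z| ≤ ι = |B : B ∩ N|`, `2 < ι`; `SitR.t1` : (T1).
-/

set_option autoImplicit false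

namespace Cfsg.Agent.Omega.NOThreeL.RLow

open Subgroup Cfsg
open Cfsg.Agent.ZN
open Cfsg.Agent.Omega.MinPar Cfsg.Agent.Omega.Frame Cfsg.Agent.Omega.FrameNOFF
open Cfsg.Agent.Omega.NO3b.EZero (NotFF)
open Cfsg.Agent.Omega.FFThm (ElemM OffM NoOverM ConclM NatKM SymKM)
open Cfsg.Agent.Omega.FrameFF (cv)
open Cfsg.Agent.Omega.NOThreeL.Low (Key.BH)
open Cfsg.Agent.Omega.NOne.Flat (Hyp EE WW NN)
open Cfsg.Agent.Omega.NOne.NearFF (c)
open Cfsg.Agent.Omega.Half (Amb amb_of_loc)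
open Cfsg.Agent.MinSimple.VModule (zc_le_zl)
open scoped Pointwise

universe u

variable {G : Type u} [Group G] [Finite G] {S : Sylow 2 G} {V F B P : Subgroup G}

theorem SitR.zc_inf (s : SitR S V F B P) : zc (S : Subgroup G) ⊓ F = ⊥ := by
  have h := s.pt P s.hP s.bad 1 (one_mem P)
  rwa [map_one, one_smul] at h

/-- The points of `U` meet `F` trivially. -/
theorem SitR.ptP (s : SitR S V F B P) {g : G} (hg : g ∈ P) : MulAut.conj g • zc (S : Subgroup G) ⊓ F = ⊥ :=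
  s.pt P s.hP s.bad g hg

theorem SitR.zc_ne_bot (s : SitR S V F B P) : zc (S : Subgroup G) ≠ ⊥ :=
  MinSimple.Basic.zc_ne_bot S.isPGroup' (s.ctx.sylow_ne_bot S)

/-- `Z ≤ V ∩ B` -/
theorem SitR.zc_le_I (s : SitR S V F B P) : zc (S : Subgroup G) ≤ V ⊓ B :=
  le_inf ((zc_le_zl _ P).trans s.UV) s.ZB

/-- `V ∩ B ≰ F` -/
theorem SitR.not_le (s : SitR S V F B P) : ¬ V ⊓ B ≤ F := by
  intro h
  refine s.zc_ne_bot (le_bot_iff.1 ?_)
  rw [← s.zc_inf]
  exact le_inf le_rfl (s.zc_le_I.trans h)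

/-- **(nFF)** -/
theorem SitR.not_notFF (s : SitR S V F B P) : ¬ NotFF (zl (S : Subgroup G) P) :=
  Low.NonFF.ff s.ctx.char2 s.hP (s.D.low P s.hP) s.flat s.BW s.FB s.comm s.XB s.not_le s.BS s.UV s.bad

/-- `U = V_P` has an offender in `S`. -/
theorem SitR.exists_off (s : SitR S V F B P) :
    ∃ A : Subgroup G, A ≤ (S : Subgroup G) ∧ OffM (zl (S : Subgroup G) P) A :=
  Low.exists_off (s.hP.le.trans (MinSimple.VModule.le_normalizer_zl _ _)) s.not_notFF

/-- The FF theorem for the bad line. -/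
theorem SitR.concl (s : SitR S V F B P) :
    NoOverM (zl (S : Subgroup G) P) P ∧ ConclM (S : Subgroup G) P := by
  obtain ⟨A, hA, ho⟩ := s.exists_off
  exact StarEnd.stmtM G (S : Subgroup G) P (MinSimple.EmptyTI.syl_of_le s.hP.le)
    s.hP.toIsMinPar (s.hP.isLoc.char2 S s.ctx.char2) ⟨A, hA.trans s.hP.le, ho⟩

/-- **RA**: `U` is an FF-module. -/
theorem ra : StRA.{u} := by
  intro G _ _ S V F B P s
  obtain ⟨A, hA, ho⟩ := s.exists_off
  exact ⟨A, hA.trans s.hP.le, ho⟩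

/-! ### Common facts -/

/-- `BH` of `Low/Key`. -/
theorem SitR.bh (s : SitR S V F B P) : Low.Key.BH V F B :=
  { s.flat with le_W := s.BW, F_le := s.FB, abel := s.comm, norm := s.XB }

theorem SitR.amb (s : SitR S V F B P) : Amb (S : Subgroup G) P (zl (S : Subgroup G) P) :=
  amb_of_loc s.ctx.char2 S s.hP.toIsPar.isLoc

/-- `|Z| ≤ |I : F|` -/
theorem SitR.card_le (s : SitR S V F B P) : Nat.card (zc (S : Subgroup G)) ≤ F.relIndex (V ⊓ B) := by
  have h1 : F.relIndex (zc (S : Subgroup G)) = Nat.card (zc (S : Subgroup G)) := by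
    rw [← inf_relIndex_right, inf_comm, s.zc_inf, relIndex_bot_left]
  rw [← h1]
  exact relIndex_le_of_le_right s.zc_le_I index_ne_zero_of_finite

/-- `2 < ι = |B : B ∩ N|` -/
theorem SitR.two_lt (s : SitR S V F B P) : 2 < (NN V F).relIndex B := by
  rw [s.bh.relIndex_B]
  exact s.card.trans_le s.card_le

/-- `B` does not centralise `w ∈ V - E`. -/
theorem SitR.exists_moved (s : SitR S V F B P) {w : G} (hw : w ∈ V) (hwE : w ∉ EE V F) :
    ∃ b ∈ B, c w b ∉ F := by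
  by_contra hall
  push Not at hall
  have h1 : B ≤ NN V F := fun b hb => s.bh.mem_NN_of_c hw hwE hb (hall b hb)
  have h2 := s.two_lt
  rw [relIndex_eq_one.2 h1] at h2
  omega

/-- **(T1)** -/
theorem SitR.t1 (s : SitR S V F B P) {w : G} (hw : w ∈ V) (hwE : w ∉ EE V F)
    (hall : ∀ b ∈ B, ∀ c ∈ B, b * w * b⁻¹ ≠ w → c * w * c⁻¹ ≠ w → b * w * b⁻¹ = c * w * c⁻¹) : False := by
  have h1 := s.bh.relIndex_le_two hw hwE hall
  rw [← s.bh.relIndex_B] at h1
  exact absurd s.two_lt (not_lt.2 h1)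

end Cfsg.Agent.Omega.NOThreeL.RLow

end

section


/-!
# THEOREM R-LOW (#21762), RE: the torus (port of `Low/Torus.lean`)

* `core_of` : the situation `Core` of `TorusCore` from `NSitR`, `x ∈ C_G(F)` bad;
* **`re : StRE`**;
* `point_of` : if `g ∈ C_G(F)` acts on `R_i` as the multiplication by `l ≠ 0`, then `Z^g` is a point of `U`;
* `tor_point` : for `r, r' ∈ R_i#` some `g ∈ C_G(F)` maps `r` to `r'` and `Z^g` is a point of `U`.
-/

set_option autoImplicit false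

namespace Cfsg.Agent.Omega.NOThreeL.RLow

open Subgroup Cfsg Cfsg.Agent.ZN Cfsg.Agent.Omega.MinPar Cfsg.Agent.Omega.Frame Cfsg.Agent.Omega.FrameNOFF
open Cfsg.Agent.Omega.NoFF.Basic (mem_conj)
open Cfsg.Agent.Omega.NOne.Frame (mem_conj')
open Cfsg.Agent.Omega.NOThreeL.Low (Blk Rtv Tor Core Key.exists_bad blk exists_blk mem_blk)
open Cfsg.Agent.Omega.NOne.Flat (Hyp EE WW NN BadX)
open Cfsg.Agent.Omega.FFThm (NatKM ActsSL)
open Cfsg.Agent.Omega.NatPair (ap ap_zero' ap_one' ap_one ext2)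
open Cfsg.Agent.Lib.SL2Mat
open scoped Pointwise

universe u



variable {G : Type u} [Group G] [Finite G] {S : Sylow 2 G} {V F B P : Subgroup G}
  {K : Type} [Field K] {k : ℕ} {N : NatKM K (S : Subgroup G) P (zl (S : Subgroup G) P) ⊥ k} {i : Fin k} {β : G → K}

namespace NSitR

variable (s : NSitR S V F B P N i β)
include s

theorem blk_le_V : blk N i ≤ V := fun _ hv => s.UV hv.1

/-- `β b = 0` if `b ∈ B` centralises `N_i` -/
theorem mem_NN_of_comm {b : G} (hb : b ∈ B) (h : ∀ n ∈ blk N i, b * n = n * b) : b ∈ NN V F := by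
  refine (s.βN b hb).1 ?_
  obtain ⟨a, ha, hea⟩ := exists_blk N i ![0, 1]
  have h1 := (s.act b hb a ha).2
  rw [h a ha, mul_inv_cancel_right, hea, NF.NatR.ap_up] at h1
  have h2 := congrFun h1 0
  simpa using h2.symm

/-- The situation of `TorusCore`. -/
theorem core_of {x : G} (hx : x ∈ centralizer (F : Set G)) (hb : BadX V x) :
    Core (centralizer (F : Set G)) V B (blk N i) (fun v => N.e v i) β x := by
  have hRE : ∀ a ∈ blk N i, N.e a i 1 = 0 → a ∈ EE V F := fun a ha h => (s.blkE a ha).2 h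
  have hBc : ∀ a ∈ B, ∀ b ∈ B, a * b = b * a := fun a ha b hb => (mem_centralizer_iff.1 (s.comm ha) b hb).symm
  have hxF : ∀ {y f : G}, y ∈ centralizer (F : Set G) → f ∈ F → y * f * y⁻¹ = f := fun {y f} hy hf => by
    have := mem_centralizer_iff.1 hy f hf
    rw [← this, mul_inv_cancel_right]
  refine ⟨s.blk_le_V, fun a ha b hb => s.flat.V_comm ha hb, s.flat.V_le_X, s.XB, hBc,
    fun a ha => by rw [← pow_two]; exact s.sq a ha, fun a ha b hb => ?_, fun a ha h => ?_,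
    fun y => exists_blk N i y, fun a ha h => s.rtB a ⟨ha, h⟩, fun b hb a ha => ?_, hx,
    fun g hg a ha hne hca a' ha' hca' he v hv w hw => ?_, fun a ha hca h => ?_, fun a ha hca h => ?_⟩
  · rw [N.mul a ha.1 b hb.1, Pi.add_apply]
  · have h1 : N.e a = 0 := by
      funext j
      by_cases hj : j = i
      · subst hj; exact h
      · exact ha.2 j hj
    exact mem_bot.1 ((N.ker a ha.1).1 h1)
  · obtain ⟨h1, h2⟩ := s.act b hb a ha
    exact ⟨h1, by rw [h2, NF.NatR.ap_up]⟩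
  · -- `ti`
    have h1 : a ∈ V ⊓ MulAut.conj g • V := by
      refine ⟨s.blk_le_V ha, ?_⟩
      rw [← he]
      exact mem_conj'.2 ⟨a', s.blk_le_V ha', rfl⟩
    have h2 : F < V ⊓ MulAut.conj g • V := by
      refine lt_of_le_of_ne (s.flat.F_le_inf hg) fun h3 => hne (s.blkF a ha ?_)
      rw [h3]; exact h1
    have h3 := s.flat.commute_of_lt hg h2
    have h4 : g * w * g⁻¹ ∈ MulAut.conj g • V := mem_conj'.2 ⟨w, hw, rfl⟩
    exact mem_centralizer_iff.1 (h3 h4) v hv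
  · -- `dis`
    have hxa : x * a * x⁻¹ ∈ B := (mem_normalizer_iff.1 (s.XB hx) a).1 (s.rtB a ⟨ha, hca⟩)
    have h1 : x * a * x⁻¹ ∈ NN V F := s.mem_NN_of_comm hxa h
    have h2 : x * a * x⁻¹ ∈ F := by
      rw [← s.flat.conjE_inf_NN hx hb]
      exact ⟨mem_conj'.2 ⟨a, hRE a ha hca, rfl⟩, h1⟩
    refine s.blkF a ha ?_
    have h3 := hxF (inv_mem hx) h2
    have e1 : x⁻¹ * (x * a * x⁻¹) * x⁻¹⁻¹ = a := by group
    rw [e1] at h3
    rw [h3]; exact h2
  · -- `dis'`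
    have hxa : x⁻¹ * a * x ∈ B := by
      have := (mem_normalizer_iff.1 (s.XB (inv_mem hx)) a).1 (s.rtB a ⟨ha, hca⟩)
      rwa [inv_inv] at this
    have h1 : x⁻¹ * a * x ∈ NN V F := by
      refine s.mem_NN_of_comm hxa fun n hn => ?_
      have h2 := congrArg (fun t => x⁻¹ * t * x) (h n hn)
      have e1 : x⁻¹ * (a * (x * n * x⁻¹)) * x = x⁻¹ * a * x * n := by group
      have e2 : x⁻¹ * (x * n * x⁻¹ * a) * x = n * (x⁻¹ * a * x) := by group
      have h3 : x⁻¹ * (a * (x * n * x⁻¹)) * x = x⁻¹ * (x * n * x⁻¹ * a) * x := h2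
      rwa [e1, e2] at h3
    refine s.blkF a ha ?_
    rw [← s.flat.E_inf_conjNN hx hb]
    exact ⟨hRE a ha hca, mem_conj.2 h1⟩

end NSitR

/-- **RE**: the torus. -/
theorem re : StRE.{u} := by
  intro G _ _ S V F B P K _ _ _ k N i β s l hl
  obtain ⟨x, hx, hb⟩ := Key.exists_bad s.flat
  obtain ⟨g, hg, h⟩ := (s.core_of hx hb).torus hl
  have hle : blk N i ⊔ ChoiceBase.cj x (blk N i) ≤ centralizer (F : Set G) := by
    have h1 : blk N i ≤ centralizer (F : Set G) := s.blk_le_V.trans s.flat.V_le_X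
    refine sup_le h1 ?_
    rintro _ ⟨n, hn, rfl⟩
    exact mul_mem (mul_mem hx (h1 hn)) (inv_mem hx)
  refine ⟨g, hle hg, fun r hr => ?_⟩
  obtain ⟨h1, h2⟩ := h r hr.1 hr.2
  have h2' : N.e (g * r * g⁻¹) i = ![l * N.e r i 0, 0] := h2
  exact ⟨⟨h1, by rw [h2']; rfl⟩, by rw [h2']; rfl⟩

/-! ### `Z^g` is a point of `U` -/

/-- If `g ∈ C_G(F)` acts on `R_i` as the multiplication by `l ≠ 0`, then `Z^g` is a point of `U`. -/
theorem NSitR.point_of (s : NSitR S V F B P N i β) {l : K} (hl : l ≠ 0) {g : G}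
    (hg : g ∈ centralizer (F : Set G))
    (h : ∀ r, Rtv N i r → Rtv N i (g * r * g⁻¹) ∧ N.e (g * r * g⁻¹) i 0 = l * N.e r i 0) :
    ∃ q ∈ P, MulAut.conj g • zc (S : Subgroup G) = MulAut.conj q • zc (S : Subgroup G) := by
  classical
  -- the torus element of the block `i`
  obtain ⟨q, hq, hqa⟩ := N.lift (Pi.mulSingle i (dg l hl))
  refine ⟨q, hq, ?_⟩
  have hzU : ∀ z ∈ zc (S : Subgroup G), z ∈ zl (S : Subgroup G) P := fun z hz =>
    Cfsg.Agent.MinSimple.VModule.zc_le_zl _ _ hz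
  have hPU : P ≤ normalizer (zl (S : Subgroup G) P : Set G) := Cfsg.Agent.MinSimple.VModule.le_normalizer_zl _ _
  have key : ∀ z ∈ zc (S : Subgroup G), g * z * g⁻¹ = q * z * q⁻¹ := by
    intro z hz
    obtain ⟨r, hr, her, hrz⟩ := s.zF z hz
    have hzU' := hzU z hz
    obtain ⟨h1, h2⟩ := h r hr
    have e1 : g * z * g⁻¹ = g * r * g⁻¹ * (r⁻¹ * z) := by
      have h3 := mem_centralizer_iff.1 hg _ hrz
      calc g * z * g⁻¹ = g * r * ((r⁻¹ * z) * g⁻¹) := by group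
        _ = g * r * (g⁻¹ * (r⁻¹ * z)) := by
          congr 1
          rw [eq_inv_mul_iff_mul_eq, ← mul_assoc, ← h3, mul_inv_cancel_right]
        _ = _ := by group
    have hrU : r⁻¹ * z ∈ zl (S : Subgroup G) P := mul_mem (inv_mem hr.1.1) hzU'
    have hzi1 : N.e z i 1 = 0 := by rw [← her]; exact hr.2
    refine NF.NatR.e_inj (M := N) ?_ (NF.NatR.cmem hPU hq hzU') ?_
    · rw [e1]; exact mul_mem h1.1.1 hrU
    · funext j
      rw [e1, N.mul _ h1.1.1 _ hrU, N.mul _ (inv_mem hr.1.1) _ hzU', NF.NatR.e_inv (M := N) hr.1.1, hqa.1 z hzU' j]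
      by_cases hj : j = i
      · subst hj
        rw [Pi.add_apply, Pi.add_apply, Pi.neg_apply, her, neg_add_cancel, add_zero, Pi.mulSingle_eq_same]
        refine ext2 ?_ ?_
        · rw [h2, her, ap_zero', dg_00, dg_01]; simp
        · rw [h1.2, ap_one', dg_10, dg_11, hzi1]; simp
      · rw [Pi.add_apply, Pi.add_apply, Pi.neg_apply, h1.1.2 j hj, hr.1.2 j hj, Pi.mulSingle_eq_of_ne hj, ap_one]
        simp
  ext y
  rw [mem_conj', mem_conj']
  constructor
  · rintro ⟨z, hz, rfl⟩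
    exact ⟨z, hz, key z hz⟩
  · rintro ⟨z, hz, rfl⟩
    exact ⟨z, hz, (key z hz).symm⟩

/-- **(T8)** `R_i#` is fused in `C_G(F)` by elements `g` such that `Z^g` is a point of `U`. -/
theorem NSitR.tor_point (s : NSitR S V F B P N i β) (ht : Tor (F := F) N i) {r r' : G} (hr : Rtv N i r)
    (hr1 : r ≠ 1) (hr' : Rtv N i r') (hr1' : r' ≠ 1) :
    ∃ g ∈ centralizer (F : Set G), g * r * g⁻¹ = r' ∧
      ∃ q ∈ P, MulAut.conj g • zc (S : Subgroup G) = MulAut.conj q • zc (S : Subgroup G) := by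
  have hne : ∀ {v : G}, Rtv N i v → v ≠ 1 → N.e v i 0 ≠ 0 := by
    intro v hv hv1 h0
    refine hv1 (mem_bot.1 ((N.ker v hv.1.1).1 ?_))
    funext j
    by_cases hj : j = i
    · subst hj; exact ext2 h0 hv.2
    · exact hv.1.2 j hj
  have h0 := hne hr hr1
  have h0' := hne hr' hr1'
  have hl : N.e r' i 0 / N.e r i 0 ≠ 0 := div_ne_zero h0' h0
  obtain ⟨g, hg, h⟩ := ht _ hl
  refine ⟨g, hg, ?_, s.point_of hl hg h⟩
  obtain ⟨h1, h2⟩ := h r hr
  refine NF.NatR.e_inj (M := N) h1.1.1 hr'.1.1 ?_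
  funext j
  by_cases hj : j = i
  · subst hj
    refine ext2 ?_ (by rw [h1.2, hr'.2])
    rw [h2, div_mul_cancel₀ _ h0]
  · rw [h1.1.2 j hj, hr'.1.2 j hj]

end Cfsg.Agent.Omega.NOThreeL.RLow

end
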