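import Cfsg.Agent.Mrg.Omega.NOThreeL.Low.Defs
import Cfsg.Agent.Mrg.Omega.NOne.Flat.Off
import Cfsg.Agent.Mrg.Omega.NOThreeL.NF.Nat
import Cfsg.Agent.Mrg.Omega.IId.SymWrD.Zero
import Cfsg.Agent.Mrg.Omega.NOThreeL.Low.SitTwo

section


/-!
# THEOREM R-LOW (#21762), part RB: the bad line is not of symmetric type, radical or not

* `bh`, `Z_inf_F`, `two_lt`, `quad`, `false_of_few` : (T1) + (I2) for `SitR`;
* `rb : StRB` : `U = A × D`, `D = C_U(O²(P)) ≤ Z ≤ E` (the module splits), so `A ≰ E` and `SymCase.le_of_t1` for `A`.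
-/

set_option autoImplicit false

namespace Cfsg.Agent.Omega.NOThreeL.RLow.SymR

open Subgroup Cfsg Cfsg.Agent.ZN Cfsg.Agent.Omega.MinPar Cfsg.Agent.Omega.Frame Cfsg.Agent.Omega.FrameNOFF
open Cfsg.Agent.Omega.NOne.Flat (Hyp EE WW NN BadX)
open Cfsg.Agent.Omega.NOne.NearFF (c)
open Cfsg.Agent.Omega.FrameFF (cv)
open Cfsg.Agent.Omega.FFThm (SymK SymKM)
open Cfsg.Agent.ZN.ChoiceSit (Syl)
open Cfsg.Agent.MinSimple.VModule (zc_le zl_le le_normalizer_zl)
open scoped Pointwise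

universe u

variable {G : Type u} [Group G] [Finite G] {S : Sylow 2 G} {V F B P : Subgroup G}

/-- 876's structure. -/
theorem bh (s : SitR S V F B P) : Low.Key.BH V F B := ⟨s.flat, s.BW, s.FB, s.comm, s.XB⟩

theorem Z_le_I (s : SitR S V F B P) : zc (S : Subgroup G) ≤ V ⊓ B :=
  le_inf ((MinSimple.VModule.zc_le_zl _ _).trans s.UV) s.ZB

theorem I_le_E (s : SitR S V F B P) : V ⊓ B ≤ EE V F := (bh s).I_le_E

/-- `Z ∩ F = 1` -/
theorem Z_inf_F (s : SitR S V F B P) : zc (S : Subgroup G) ⊓ F = ⊥ := by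
  have := s.pt P s.hP s.bad 1 (one_mem _)
  rwa [map_one, one_smul] at this

/-- **(I2)**: `2 < |I : F|` -/
theorem two_lt (s : SitR S V F B P) : 2 < F.relIndex (V ⊓ B) := by
  refine s.card.trans_le ?_
  have h1 : F.relIndex (zc (S : Subgroup G)) = Nat.card (zc (S : Subgroup G)) := by
    rw [← inf_relIndex_right, inf_comm, Z_inf_F s, relIndex_bot_left]
  rw [← h1]
  refine relIndex_le_of_le_right (Z_le_I s) ?_
  have : Finite (↥(V ⊓ B) ⧸ F.subgroupOf (V ⊓ B)) := inferInstance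
  exact index_ne_zero_of_finite

/-- `[V, B, B] = 1` -/
theorem quad (s : SitR S V F B P) {w b b' : G} (hw : w ∈ V) (hb : b ∈ B) (hb' : b' ∈ B) :
    b' * (b * w * b⁻¹ * w⁻¹) = b * w * b⁻¹ * w⁻¹ * b' := by
  have h1 := (bh s).quad hw hb hb'
  have h2 : (c w b)⁻¹ = b * w * b⁻¹ * w⁻¹ := by rw [c]; group
  rw [← h2]
  calc b' * (c w b)⁻¹ = (c w b)⁻¹ * (c w b * b') * (c w b)⁻¹ := by group
    _ = (c w b)⁻¹ * (b' * c w b) * (c w b)⁻¹ := by rw [h1]
    _ = (c w b)⁻¹ * b' := by group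

/-- **(T1) + (I2)**: no `w ∈ V - E` has at most one other `B`-conjugate. -/
theorem false_of_few (s : SitR S V F B P) {w : G} (hw : w ∈ V) (hwE : w ∉ EE V F)
    (h1 : ∀ b ∈ B, ∀ b' ∈ B, b * w * b⁻¹ ≠ w → b' * w * b'⁻¹ ≠ w → b * w * b⁻¹ = b' * w * b'⁻¹) : False :=
  absurd (two_lt s) (not_lt.2 ((bh s).relIndex_le_two hw hwE h1))

/-- **RB**: `U` is not of symmetric type (radical or not). -/
theorem rb : StRB.{u} := by
  intro G _ _ S V F B P s k m hk hm M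
  have hloc := s.hP.isLoc
  have hc := s.ctx.char2
  have hT : Syl (S : Subgroup G) P := ⟨hloc.le, S.isPGroup', fun Q _ hQ hle => S.is_maximal' hQ hle⟩
  obtain ⟨hHD, A, hAV, hsup, hinf, hAN⟩ :=
    Cfsg.Agent.Omega.IId.SymWrD.exists_compl M.toSymK hk ((by norm_num : 1 ≤ 2).trans hm) hT (hloc.char2 S hc)
  have hamb := Half.amb_of_loc hc S hloc
  have hDV : cv (S : Subgroup G) P ≤ zl (S : Subgroup G) P := inf_le_left
  -- `D ≤ Z ≤ E`
  have hDZ : cv (S : Subgroup G) P ≤ zc (S : Subgroup G) := by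
    intro d hd
    rw [MinSimple.VModule.mem_zc]
    exact ⟨s.VS (s.UV (hDV hd)), fun t ht => hHD t (hloc.le ht) d hd, hamb.sq d (hDV hd)⟩
  have hDE : cv (S : Subgroup G) P ≤ EE V F := hDZ.trans ((Z_le_I s).trans (I_le_E s))
  let M' := Cfsg.Agent.Omega.IId.SymWrD.compl M.toSymK hloc.le hamb.comm hsup hinf hAN hHD
  have hAE : A ≤ EE V F := by
    refine Low.SymCase.le_of_t1 M' hloc.le hAN s.BS ?_ ?_
    · intro w hw b hb b' hb'
      exact quad s (s.UV (hAV hw)) hb hb'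
    · intro w hw hwE h1
      exact false_of_few s (s.UV (hAV hw)) hwE h1
  exact s.bad (hsup ▸ sup_le hAE hDE)

end Cfsg.Agent.Omega.NOThreeL.RLow.SymR

end

section


/-!
# THEOREM R-LOW (#21762, helper597), RD : the natural situation (port of `Low/PSeven`)

* `two_lt` : `2 < |B : B ∩ N|` (`Z ≤ V ∩ B`, `Z ∩ F = 1`, `|Z| ≥ 4`); `qb`;
* `act_of_bad` : `B` acts on every bad block as a subgroup of the root group;
* `rd : StRD`.
-/

set_option autoImplicit false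
set_option linter.unusedSectionVars false

namespace Cfsg.Agent.Omega.NOThreeL.RLow.RD

open Subgroup Cfsg Cfsg.Agent.ZN Cfsg.Agent.Omega.MinPar Cfsg.Agent.Omega.Frame
open Cfsg.Agent.Omega.NOne.Flat (Hyp EE WW NN BadX)
open Cfsg.Agent.Omega.NOne.NearFF (c)
open Cfsg.Agent.Omega.FFThm (NatK NatKM SymKM ActsSL)
open Cfsg.Agent.Omega.Half (Amb amb_of_loc)
open Cfsg.Agent.Omega.Half.NatA (inj eq_one e_one e_inv Mv)
open Cfsg.Agent.Omega.NO1.NSix
open Cfsg.Agent.Omega.NatPair (ap ext2 ap_zero' ap_one' exists_ap ap_one)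
open Cfsg.Agent.Lib.SL2Mat
open Cfsg.Agent.MinSimple.VModule (zc_le_zl)
open Cfsg.Agent.Omega.NOThreeL.Low (Blk Rtv Tor)
open Cfsg.Agent.Omega.NOThreeL.Low.PSeven (mem_conj_of blk_em em_blk z_one z_ne Act blk_mul blk_inv blk_ext blk_one
  blk_eq_one βmul)
open scoped Pointwise

universe u

section sit

variable {G : Type u} [Group G] [Finite G] {S : Sylow 2 G} {V F B P : Subgroup G}

/-- `BH` of `Low/Key`. -/
theorem bh (s : SitR S V F B P) : Low.Key.BH V F B :=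
  { s.flat with le_W := s.BW, F_le := s.FB, abel := s.comm, norm := s.XB }

theorem amb (s : SitR S V F B P) : Amb (S : Subgroup G) P (zl (S : Subgroup G) P) :=
  amb_of_loc s.ctx.char2 S s.hP.toIsPar.isLoc

theorem zVB (s : SitR S V F B P) : zc (S : Subgroup G) ≤ V ⊓ B :=
  le_inf ((zc_le_zl (S : Subgroup G) P).trans s.UV) s.ZB

theorem zcF (s : SitR S V F B P) : zc (S : Subgroup G) ⊓ F = ⊥ := by
  have h1 := s.pt P s.hP s.bad 1 (one_mem P)
  rwa [map_one, one_smul] at h1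

/-- **(I2)** is free in box R -/
theorem two_lt (s : SitR S V F B P) : 2 < (NN V F).relIndex B := by
  have h1 : Nat.card (zc (S : Subgroup G)) ≤ F.relIndex (V ⊓ B) := by
    have h2 : F.relIndex (zc (S : Subgroup G)) = Nat.card (zc (S : Subgroup G)) := by
      rw [← inf_relIndex_right, inf_comm, zcF s, relIndex_bot_left]
    rw [← h2]
    exact relIndex_le_of_le_right (zVB s) index_ne_zero_of_finite
  rw [(bh s).relIndex_B]
  exact s.card.trans_le h1

/-- `B` does not centralise `w ∈ V - E`. -/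
theorem exists_moved (s : SitR S V F B P) {w : G} (hw : w ∈ V) (hwE : w ∉ EE V F) :
    ∃ b ∈ B, c w b ∉ F := by
  by_contra hall
  push Not at hall
  have h1 : B ≤ NN V F := fun b hb => (bh s).mem_NN_of_c hw hwE hb (hall b hb)
  have h2 := two_lt s
  rw [relIndex_eq_one.2 h1] at h2
  omega

theorem qb (s : SitR S V F B P) : Low.Nat.QB (S : Subgroup G) (zl (S : Subgroup G) P) B (EE V F) where
  BS := s.BS
  ab := fun _ hb _ hc => (bh s).B_comm hb hc
  sq := fun b hb => by rw [← pow_two]; exact s.sq b hb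
  quad := fun v hv b hb c' hc => by
    have h1 := (bh s).quad (s.UV hv) hb hc
    have h2 : b * v * b⁻¹ * v⁻¹ = (c v b)⁻¹ := by rw [c]; group
    rw [h2]
    calc c' * (c v b)⁻¹ = (c v b)⁻¹ * (c v b * c') * (c v b)⁻¹ := by group
      _ = (c v b)⁻¹ * (c' * c v b) * (c v b)⁻¹ := by rw [h1]
      _ = (c v b)⁻¹ * c' := by group
  t1 := fun w hw hwE hall => by
    have h1 := (bh s).relIndex_le_two (s.UV hw) hwE hall
    rw [← (bh s).relIndex_B] at h1
    exact absurd (two_lt s) (not_lt.2 h1)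



/-- **P7a** -/
theorem act_of_bad (s : SitR S V F B P) {K : Type} [Field K] [Finite K] [CharP K 2] {k : ℕ}
    (N : NatKM K (S : Subgroup G) P (zl (S : Subgroup G) P) ⊥ k) {i : Fin k} (hbad : ∃ w, Blk N i w ∧ w ∉ EE V F)
    {b : G} (hb : b ∈ B) : ∃ x : K, ∀ v, Blk N i v →
      Blk N i (b * v * b⁻¹) ∧ N.e (b * v * b⁻¹) i = ap (up x) (N.e v i) := by
  have hA := amb s
  have hQ := qb s
  have hi : Low.Nat.Bad N.toNatK (EE V F) i := by
    obtain ⟨w, hw, hwE⟩ := hbad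
    refine ⟨N.e w i, ?_⟩
    rwa [blk_em N hw]
  obtain ⟨x, hx⟩ := hQ.exists_up hA hi hb
  refine ⟨x, fun v hv => ⟨⟨hA.conj_mem (hQ.BP hA hb) hv.1, fun j hj => ?_⟩, hx v hv.1⟩⟩
  obtain ⟨σ, hσ⟩ := N.perm b (hQ.BP hA hb)
  have hσi : σ i = i := hQ.fix hA hi hb hσ
  have h1 := (hσ v hv.1 (σ.symm j)).2 (hv.2 _ fun h2 => hj (by rw [← hσi, ← h2, σ.apply_symm_apply]))
  rwa [σ.apply_symm_apply] at h1

end sit

/-! ### P7b -/

section zz

variable {G : Type u} [Group G] [Finite G] {S : Sylow 2 G} {V F B P : Subgroup G}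
variable {K : Type} [Field K] {k : ℕ} (N : NatKM K (S : Subgroup G) P (zl (S : Subgroup G) P) ⊥ k)

/-- Full-support vectors are in points of `U`. -/
theorem full (s : SitR S V F B P) {v : G} (hv : v ∈ zl (S : Subgroup G) P) (h : ∀ j, N.e v j ≠ 0) :
    ∃ g ∈ P, v ∈ MulAut.conj g • zc (S : Subgroup G) := by
  have hne := MinSimple.Basic.zc_ne_bot S.isPGroup' (s.ctx.sylow_ne_bot S)
  obtain ⟨⟨z, hz⟩, hz1⟩ := ne_bot_iff_exists_ne_one.1 hne
  replace hz1 : z ≠ 1 := fun h1 => hz1 (Subtype.ext h1)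
  have hzV := zc_le_zl (S : Subgroup G) P hz
  choose A hA using fun j => exists_ap (z_ne N hz hz1 j) (h j)
  obtain ⟨g, hg, hgA, -⟩ := N.lift A
  refine ⟨g, hg, ?_⟩
  have h1 : g * z * g⁻¹ = v := by
    apply inj N.toNatK ((amb s).conj_mem hg hzV) hv
    funext j
    rw [hgA z hzV j, hA]
  rw [← h1]
  exact mem_conj_of hz

/-- `F ∩ U` has no full-support vector. -/
theorem nfull (s : SitR S V F B P) (hk : 0 < k) {f : G} (hf : f ∈ F) (hfU : f ∈ zl (S : Subgroup G) P) :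
    ∃ j, N.e f j = 0 := by
  by_contra hall
  push Not at hall
  obtain ⟨g, hg, hfg⟩ := full N s hfU hall
  have h1 := s.pt P s.hP s.bad g hg
  have h2 : f ∈ MulAut.conj g • zc (S : Subgroup G) ⊓ F := mem_inf.2 ⟨hfg, hf⟩
  rw [h1, mem_bot] at h2
  apply hall ⟨0, hk⟩
  rw [h2, e_one N.toNatK]
  rfl

end zz

section pb

variable {G : Type u} [Group G] [Finite G] {S : Sylow 2 G} {V F B P : Subgroup G}
variable {K : Type} [Field K] [CharP K 2] {k : ℕ} {N : NatKM K (S : Subgroup G) P (zl (S : Subgroup G) P) ⊥ k}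
variable {i : Fin k} {β : G → K}

/-- `R_i ≤ E` for a bad block -/
theorem rt_le (s : SitR S V F B P) (h : Act N B i β) {r : G} (hr : Rtv N i r) : r ∈ EE V F := by
  by_contra hE
  obtain ⟨b, hb, hbF⟩ := exists_moved s (s.UV hr.1.1) hE
  apply hbF
  rw [h.c_eq_one hb hr.1 (by rw [hr.2, mul_zero])]
  exact one_mem F

theorem exists_beta (s : SitR S V F B P) (h : Act N B i β) (hbad : ∃ w, Blk N i w ∧ w ∉ EE V F) :
    ∃ b ∈ B, β b ≠ 0 := by
  obtain ⟨w, hw, hwE⟩ := hbad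
  obtain ⟨b, hb, hbF⟩ := exists_moved s (s.UV hw.1) hwE
  refine ⟨b, hb, fun h0 => hbF ?_⟩
  rw [h.c_eq_one hb hw (by rw [h0, zero_mul])]
  exact one_mem F

/-- `I ≤ R_i F` -/
theorem I_le (s : SitR S V F B P) (h : Act N B i β) (hbad : ∃ w, Blk N i w ∧ w ∉ EE V F) {a : G}
    (ha : a ∈ V ⊓ B) : ∃ r, Rtv N i r ∧ r⁻¹ * a ∈ F := by
  obtain ⟨w, hw, hwE⟩ := hbad
  obtain ⟨b, hb, hbF⟩ := (bh s).surj (s.UV hw.1) hwE ha
  exact ⟨c w b, ⟨h.c_blk hb hw, h.c_one hb hw⟩, hbF⟩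

/-- **(*)** -/
theorem zF (s : SitR S V F B P) (h : Act N B i β) (hbad : ∃ w, Blk N i w ∧ w ∉ EE V F) {z : G}
    (hz : z ∈ zc (S : Subgroup G)) : ∃ r, Rtv N i r ∧ N.e r i = N.e z i ∧ r⁻¹ * z ∈ F := by
  by_cases hz1 : z = 1
  · refine ⟨1, ⟨blk_one, by rw [e_one N.toNatK]; rfl⟩, by rw [hz1], ?_⟩
    rw [hz1, inv_one, one_mul]
    exact one_mem F
  · have hzU := zc_le_zl (S : Subgroup G) P hz
    have hzI : z ∈ V ⊓ B := mem_inf.2 ⟨s.UV hzU, s.ZB hz⟩
    obtain ⟨r, hr, hrF⟩ := I_le s h hbad hzI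
    refine ⟨r, hr, ?_, hrF⟩
    obtain ⟨j, hj⟩ := nfull N s i.pos hrF (mul_mem (inv_mem hr.1.1) hzU)
    rw [N.mul _ (inv_mem hr.1.1) _ hzU, e_inv N.toNatK hr.1.1, Pi.add_apply, Pi.neg_apply] at hj
    by_cases hji : j = i
    · rw [hji, neg_add_eq_zero] at hj
      exact hj
    · rw [hr.1.2 j hji, neg_zero, zero_add] at hj
      exact absurd hj (z_ne N hz hz1 j)

/-- **(**)** `N_i ∩ F = 1` -/
theorem blkF (s : SitR S V F B P) (h : Act N B i β) (hbad : ∃ w, Blk N i w ∧ w ∉ EE V F) {v : G}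
    (hv : Blk N i v) (hvF : v ∈ F) : v = 1 := by
  by_contra hv1
  have hne := MinSimple.Basic.zc_ne_bot S.isPGroup' (s.ctx.sylow_ne_bot S)
  obtain ⟨⟨z, hz⟩, hz1⟩ := ne_bot_iff_exists_ne_one.1 hne
  replace hz1 : z ≠ 1 := fun h1 => hz1 (Subtype.ext h1)
  have hzU := zc_le_zl (S : Subgroup G) P hz
  obtain ⟨r, hr, hrz, hrF⟩ := zF s h hbad hz
  have hrU := mul_mem (inv_mem hr.1.1) hzU
  obtain ⟨j, hj⟩ := nfull N s i.pos (mul_mem hvF hrF) (mul_mem hv.1 hrU)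
  rw [N.mul _ hv.1 _ hrU, N.mul _ (inv_mem hr.1.1) _ hzU, e_inv N.toNatK hr.1.1, Pi.add_apply, Pi.add_apply,
    Pi.neg_apply] at hj
  by_cases hji : j = i
  · rw [hji, hrz, neg_add_cancel, add_zero] at hj
    exact hv1 (blk_eq_one hv (by rw [hj]; rfl) (by rw [hj]; rfl))
  · rw [hv.2 j hji, hr.1.2 j hji, neg_zero, zero_add, zero_add] at hj
    exact absurd hj (z_ne N hz hz1 j)

/-- `N_i ∩ E = R_i` -/
theorem blkE (s : SitR S V F B P) (h : Act N B i β) (hbad : ∃ w, Blk N i w ∧ w ∉ EE V F) {v : G}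
    (hv : Blk N i v) : v ∈ EE V F ↔ N.e v i 1 = 0 := by
  refine ⟨fun hE => ?_, fun h1 => rt_le s h ⟨hv, h1⟩⟩
  obtain ⟨b, hb, hb0⟩ := exists_beta s h hbad
  have h1 : c v b = 1 := blkF s h hbad (h.c_blk hb hv) (s.flat.comm_EW hE (s.BW hb))
  have h2 := h.c_zero hb hv
  rw [h1, e_one N.toNatK] at h2
  exact (mul_eq_zero.1 h2.symm).resolve_left hb0

/-- `C_B(N_i) = B ∩ N` -/
theorem βN (s : SitR S V F B P) (h : Act N B i β) (hbad : ∃ w, Blk N i w ∧ w ∉ EE V F) {b : G}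
    (hb : b ∈ B) : β b = 0 ↔ b ∈ NN V F := by
  obtain ⟨w, hw, hwE⟩ := id hbad
  have hwV := s.UV hw.1
  rw [← s.flat.c_mem_F_iff hwV hwE (s.BW hb)]
  constructor
  · intro h0
    rw [h.c_eq_one hb hw (by rw [h0, zero_mul])]
    exact one_mem F
  · intro hF
    have h1 : c w b = 1 := blkF s h hbad (h.c_blk hb hw) hF
    have h2 := h.c_zero hb hw
    rw [h1, e_one N.toNatK] at h2
    exact (mul_eq_zero.1 h2.symm).resolve_right fun h3 => hwE ((blkE s h hbad hw).2 h3)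

/-- `R_i ∩ I = λ β(B)` for all `λ ≠ 0` -/
theorem exists_of_I (s : SitR S V F B P) (h : Act N B i β) (hbad : ∃ w, Blk N i w ∧ w ∉ EE V F) {l : K}
    (hl : l ≠ 0) {r : G} (hr : Rtv N i r) (hrB : r ∈ B) : ∃ b ∈ B, β b * l = N.e r i 0 := by
  have hw := em_blk N i ![0, l]
  have hw1 : N.e (em N.toNatK i ![0, l]) i 1 = l := by rw [e_em_self]; rfl
  have hwE : em N.toNatK i ![0, l] ∉ EE V F := by
    rw [blkE s h hbad hw, hw1]
    exact hl
  obtain ⟨b, hb, hbF⟩ := (bh s).surj (s.UV hw.1) hwE (mem_inf.2 ⟨s.UV hr.1.1, hrB⟩)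
  have h1 := blkF s h hbad (blk_mul (blk_inv (h.c_blk hb hw)) hr.1) hbF
  rw [inv_mul_eq_one] at h1
  refine ⟨b, hb, ?_⟩
  rw [← h1, h.c_zero hb hw, hw1]

theorem βsurj (s : SitR S V F B P) (h : Act N B i β) (hbad : ∃ w, Blk N i w ∧ w ∉ EE V F) (x : K) :
    ∃ b ∈ B, β b = x := by
  by_cases hx : x = 0
  · exact ⟨1, one_mem B, by rw [hx, βN s h hbad (one_mem B)]; exact one_mem _⟩
  obtain ⟨b0, hb0, hb0'⟩ := exists_beta s h hbad
  -- `r = [w, b0]`, `w = (0, 1)`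
  have hw := em_blk N i ![0, 1]
  have hw1 : N.e (em N.toNatK i ![0, 1]) i 1 = 1 := by rw [e_em_self]; rfl
  have hr : Rtv N i (c (em N.toNatK i ![0, 1]) b0) := ⟨h.c_blk hb0 hw, h.c_one hb0 hw⟩
  have hrB := ((bh s).c_memI (s.UV hw.1) hb0).2
  obtain ⟨b, hb, hbx⟩ := exists_of_I s h hbad (l := β b0 / x) (div_ne_zero hb0' hx) hr hrB
  rw [h.c_zero hb0 hw, hw1, mul_one] at hbx
  refine ⟨b, hb, ?_⟩
  field_simp at hbx
  exact hbx

theorem rtB (s : SitR S V F B P) (h : Act N B i β) (hbad : ∃ w, Blk N i w ∧ w ∉ EE V F) {r : G}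
    (hr : Rtv N i r) : r ∈ B := by
  obtain ⟨b, hb, hbx⟩ := βsurj s h hbad (N.e r i 0)
  have hw := em_blk N i ![0, 1]
  have hw1 : N.e (em N.toNatK i ![0, 1]) i 1 = 1 := by rw [e_em_self]; rfl
  have h1 : c (em N.toNatK i ![0, 1]) b = r := by
    refine blk_ext (h.c_blk hb hw) hr.1 ?_ ?_
    · rw [h.c_zero hb hw, hw1, mul_one, hbx]
    · rw [h.c_one hb hw, hr.2]
  rw [← h1]
  exact ((bh s).c_memI (s.UV hw.1) hb).2

theorem card_eq (s : SitR S V F B P) (h : Act N B i β) (hbad : ∃ w, Blk N i w ∧ w ∉ EE V F) :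
    (NN V F).relIndex B = Nat.card K := by
  let φ : B →* Multiplicative K :=
    { toFun := fun b => Multiplicative.ofAdd (β b)
      map_one' := by
        have h1 : β 1 = 0 := by rw [βN s h hbad (one_mem B)]; exact one_mem _
        simp [h1]
      map_mul' := fun b b' => by
        rw [coe_mul, βmul h b.2 b'.2]
        rfl }
  have hφ : Function.Surjective φ := by
    intro x
    obtain ⟨b, hb, hx⟩ := βsurj s h hbad (Multiplicative.toAdd x)
    exact ⟨⟨b, hb⟩, by show Multiplicative.ofAdd (β b) = x; rw [hx]; rfl⟩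
  have hker : φ.ker = (NN V F).subgroupOf B := by
    ext b
    rw [MonoidHom.mem_ker, mem_subgroupOf, ← βN s h hbad b.2]
    exact Multiplicative.ofAdd.injective.eq_iff' rfl
  rw [relIndex, ← hker, index_ker, MonoidHom.range_eq_top.2 hφ, card_top]
  exact Nat.card_congr Multiplicative.toAdd

end pb

/-- **RD** -/
theorem rd : StRD.{u} := by
  intro G _ _ S V F B P s K _ _ _ k N hk
  -- the functions `β`
  have hact' : ∀ j : Fin k, (∃ w, Blk N j w ∧ w ∉ EE V F) → ∃ β : G → K, Act N B j β := by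
    classical
    intro j hj
    choose x hx using fun (b : G) (hb : b ∈ B) => act_of_bad s N hj hb
    refine ⟨fun b => if hb : b ∈ B then x b hb else 0, fun b hb v hv => ?_⟩
    have h1 := hx b hb v hv
    simp only [dif_pos hb]
    exact h1
  -- a bad block
  obtain ⟨i, hbad⟩ : ∃ i : Fin k, ∃ w, Blk N i w ∧ w ∉ EE V F := by
    by_contra hall
    push Not at hall
    exact s.bad fun v hv => mem_of_em N.toNatK hv fun j => hall j _ (em_blk N j _)
  obtain ⟨β, h⟩ := hact' i hbad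
  refine ⟨i, β, { s with
    bad_i := hbad
    βmul := fun b hb b' hb' => βmul h hb hb'
    βsurj := βsurj s h hbad
    βN := fun b hb => βN s h hbad hb
    act := h
    blkE := fun v hv => blkE s h hbad hv
    blkF := fun v hv hvF => blkF s h hbad hv hvF
    rtB := fun v hv => rtB s h hbad hv
    rtE := fun v hv h1 => mem_of_em N.toNatK hv fun j => ?_
    I := fun a ha => I_le s h hbad ha
    cardB := card_eq s h hbad
    zF := fun z hz => zF s h hbad hz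
    nfull := fun f hf hfU => nfull N s hk hf hfU
    full := fun v hv hv1 => full N s hv hv1 }⟩
  by_cases hj : ∃ w, Blk N j w ∧ w ∉ EE V F
  · obtain ⟨γ, hγ⟩ := hact' j hj
    exact rt_le s hγ ⟨em_blk N j _, by rw [e_em_self]; exact h1 j⟩
  · by_contra hE
    exact hj ⟨_, em_blk N j _, hE⟩

end Cfsg.Agent.Omega.NOThreeL.RLow.RD

end
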