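import Cfsg.Agent.Mrg.Omega.IId.KOne
import Cfsg.Agent.Mrg.Omega.NOThreeL.NF.Nat
import Cfsg.Agent.Mrg.Omega.Half.Basic
import Cfsg.Agent.LieRecognition.OddTransFitting
import Cfsg.Agent.LieRecognition.FT61.Main
import Cfsg.Agent.Mrg.Omega.FrameI
import Cfsg.Agent.Mrg.Omega.All.HOneKer

section


/-!
# THEOREM R-LOW (#21762), `k = 1`: the root line of a natural line

`N : NatKM F S P U ⊥ 1` (one natural summand), `R = ln N univ` its root line.

* `zc_inf_eq` : if a 2-group `S'` acts semilinearly on the line `R ≤ S'` and `Ω₁ Z(S') ≤ R`, then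
  `Ω₁ Z(C_{S'}(R)) = R`;
* `lineF N` : coordinates on `R`, `semi` : `S` acts semilinearly on `R`;
* `slg N` : the elements of `P` acting as elements of `SL₂(F)`; `inf_slg_le` : `S ∩ slg N ≤ C(R)`;
* `syl_sup_slg` : `C_S(R) ≤ T ≤ S` is Sylow in `T (slg N)`;
* **`fuse`** : `N_P(T)` is transitive on `C_R(T)#` (Burnside, no torus).
-/

set_option autoImplicit false
set_option linter.unusedSectionVars false

namespace Cfsg.Agent.Omega.NOThreeL.RLow.KOne

open Subgroup Cfsg Cfsg.Agent.ZN Cfsg.Agent.ZN.ChoiceBase Cfsg.Agent.ZN.ChoiceSit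
open Cfsg.Agent.Omega.MinPar
open Cfsg.Agent.Omega.IId.MixedK (conj_comm comm_conj)
open Cfsg.Agent.Omega.IId.SemiLine
open Cfsg.Agent.Omega.IId.KOne (card_le_pow conj_cent syl_inf syl_le)
open Cfsg.Agent.Omega.FFThm (NatK NatKM ActsSL)
open Cfsg.Agent.Omega.Half (Amb)
open Cfsg.Agent.Omega.Half.NatA (Mv)
open Cfsg.Agent.Omega.NO1.NSix (em em_mem e_em_self em_add ph ph_add exists_semi e_conj)
open Cfsg.Agent.Omega.NOThreeL.NF
open Cfsg.Agent.Omega.NOThreeL.NF.NatR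
open Cfsg.Agent.Omega.NatPair (ap ap_mul ap_one ap_inv_ap ap_zero' ap_one' ext2 exists_ap ap_smul)
open Cfsg.Agent.Lib.SL2Mat

universe u

section line

variable {G : Type*} [Group G]

theorem mem_sup_norm {A B : Subgroup G} (h : A ≤ normalizer (B : Set G)) {x : G}
    (hx : x ∈ A ⊔ B) : ∃ a ∈ A, ∃ b ∈ B, a * b = x := by
  have h1 : x ∈ ((A ⊔ B : Subgroup G) : Set G) := hx
  rw [coe_mul_of_left_le_normalizer_right A B h] at h1
  exact Set.mem_mul.mp h1

/-- `Ω₁ Z(C_{S'}(R)) = R` (the order argument of #13866 (1)). -/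
theorem zc_inf_eq [Finite G] {F : Type*} [Field F] [Finite F] [CharP F 2] {S' R : Subgroup G}
    (L : LineF F R) (h2 : IsPGroup 2 S') (hSR : S' ≤ normalizer (R : Set G)) (hRS : R ≤ S')
    (hSs : ∀ s ∈ S', L.Semi s) (hZ : zc S' ≤ R) : zc (S' ⊓ centralizer (R : Set G)) = R := by
  have hRc : ∀ r ∈ R, ∀ r' ∈ R, r * r' = r' * r := by
    intro r hr r' hr'
    obtain ⟨x, rfl⟩ := (L.mem r).1 hr
    obtain ⟨x', rfl⟩ := (L.mem r').1 hr'
    exact L.comm x x'
  have hRsq : ∀ r ∈ R, r * r = 1 := by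
    intro r hr
    obtain ⟨x, rfl⟩ := (L.mem r).1 hr
    rw [← L.add, CharTwo.add_self_eq_zero, L.e_zero]
  set X : Subgroup G := centralizer (R : Set G) with hX
  have hRX : R ≤ X := fun r hr => mem_centralizer_iff.2 fun r' hr' => hRc r' hr' r hr
  set Y := S' ⊓ X with hY
  have hmemX : ∀ {g : G}, g ∈ X ↔ ∀ r ∈ R, g * r = r * g := by
    intro g
    rw [hX, mem_centralizer_iff]
    exact ⟨fun h r hr => (h r hr).symm, fun h r hr => (h r hr).symm⟩
  have h2' : Nat.card R = Nat.card ↥(R ⊓ centralizer (S' : Set G)) ^ Y.relIndex S' :=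
    L.card_eq S' hSs h2
  have h4 : Nat.card Y * Y.relIndex S' = Nat.card S' := by
    have h := relIndex_mul_relIndex (⊥ : Subgroup G) Y S' bot_le inf_le_left
    rwa [relIndex_bot_left, relIndex_bot_left] at h
  have hRY : R ≤ Y := le_inf hRS hRX
  have hRz : R ≤ zc Y := by
    intro r hr
    refine Cfsg.Agent.ZN.mem_zc.2 ⟨hRY hr, fun b hb => hmemX.1 hb.2 r hr, ?_⟩
    rw [pow_two]; exact hRsq r hr
  obtain ⟨a, haS, hagen⟩ := L.exists_gen S' hSs h2
  have hYN : (Y.subgroupOf S').Normal := by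
    constructor
    intro n hn g
    rw [mem_subgroupOf] at hn ⊢
    exact mem_inf.2 ⟨(g * n * g⁻¹).2, conj_cent (hSR g.2) hn.2⟩
  obtain ⟨k, hk⟩ : ∃ k, Y.relIndex S' = 2 ^ k := by
    obtain ⟨n, hn⟩ := h2.exists_card_eq
    have h5 : Y.relIndex S' ∣ 2 ^ n := by
      rw [← hn, ← h4]; exact dvd_mul_left _ _
    obtain ⟨k, -, hk⟩ := (Nat.dvd_prime_pow Nat.prime_two).1 h5
    exact ⟨k, hk⟩
  have hak : a ^ 2 ^ k ∈ Y := by
    have h5 := Subgroup.pow_index_mem (Y.subgroupOf S') (⟨a, haS⟩ : S')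
    rw [mem_subgroupOf] at h5
    rw [← hk]
    exact h5
  have hSNz : S' ≤ normalizer ((zc Y : Subgroup G) : Set G) := by
    refine le_trans ?_ (normalizer_le_normalizer_zc Y)
    exact (normal_subgroupOf_iff_le_normalizer inf_le_left).1 hYN
  have h5 := card_le_pow (Z := zc Y) (fun x hx y hy => zc_comm hy (ZN.zc_le Y hx))
    (fun x hx => by rw [← pow_two]; exact zc_sq hx) (a := a)
    (fun x hx => (mem_normalizer_iff.1 (hSNz haS) x).1 hx) k
    (fun x hx => zc_comm hx hak)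
  have h6 : zc Y ⊓ centralizer ({a} : Set G) ≤ R ⊓ centralizer (S' : Set G) := by
    intro x hxx
    obtain ⟨hx, hxa⟩ := mem_inf.1 hxx
    rw [mem_centralizer_singleton_iff] at hxa
    have hxS : ∀ s ∈ S', s * x = x * s := by
      intro s hs
      obtain ⟨n, hn⟩ := hagen s hs
      have hY' : a ^ n * s ∈ Y := mem_inf.2 ⟨mul_mem (zpow_mem haS n) hs, hmemX.2 hn⟩
      have h7 : (a ^ n * s) * x = x * (a ^ n * s) := zc_comm hx hY'
      have h8 : a ^ n * x = x * a ^ n := ((show Commute a x from hxa.symm).zpow_left n).eq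
      have h9 : a ^ n * (s * x) = a ^ n * (x * s) := by
        calc a ^ n * (s * x) = (a ^ n * s) * x := by group
          _ = (x * a ^ n) * s := by rw [h7]; group
          _ = a ^ n * (x * s) := by rw [← h8]; group
      exact mul_left_cancel h9
    refine mem_inf.2 ⟨hZ (mem_zc.2 ⟨(ZN.zc_le Y hx).1, hxS, zc_sq hx⟩),
      mem_centralizer_iff.2 fun s hs => hxS s hs⟩
  refine (Subgroup.eq_of_le_of_card_ge hRz ?_).symm
  calc Nat.card (zc Y) ≤ Nat.card ↥(zc Y ⊓ centralizer ({a} : Set G)) ^ 2 ^ k := h5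
    _ ≤ Nat.card ↥(R ⊓ centralizer (S' : Set G)) ^ 2 ^ k :=
        Nat.pow_le_pow_left (card_le_of_le h6) _
    _ = Nat.card R := by rw [h2', hk]

end line

/-! ### One natural summand -/

section one

variable {G : Type u} [Group G] {F : Type} [Field F] {S P U : Subgroup G}

/-- coordinates on the root line -/
noncomputable def lineF (N : NatKM F S P U ⊥ 1) : LineF F (ln N Set.univ) where
  e x := em N.toNatK 0 ![x, 0]
  add x y := by
    rw [← em_add]
    congr 1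
    ext i; fin_cases i <;> simp
  inj := by
    intro x y hxy
    have h1 : em N.toNatK 0 ![x, 0] = em N.toNatK 0 ![y, 0] := hxy
    have h2 := congrArg (fun g => N.e g 0) h1
    simp only [e_em_self] at h2
    exact congrFun h2 0
  mem g := by
    rw [mem_ln]
    constructor
    · rintro ⟨hg, h1, -⟩
      refine ⟨N.e g 0 0, ?_⟩
      refine e_inj (M := N) (em_mem _ _ _) hg ?_
      funext j
      obtain rfl : j = 0 := Subsingleton.elim _ _
      rw [e_em_self]
      refine ext2 rfl ?_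
      rw [h1]; rfl
    · rintro ⟨x, rfl⟩
      refine ⟨em_mem _ _ _, fun j => ?_, fun j hj => absurd (Set.mem_univ j) hj⟩
      obtain rfl : j = 0 := Subsingleton.elim _ _
      rw [e_em_self]; rfl

variable {N : NatKM F S P U ⊥ 1}

theorem mem_root {v : G} : v ∈ ln N Set.univ ↔ v ∈ U ∧ N.e v 0 1 = 0 := by
  rw [mem_ln]
  constructor
  · rintro ⟨h1, h2, -⟩
    exact ⟨h1, h2 0⟩
  · rintro ⟨h1, h2⟩
    refine ⟨h1, fun j => ?_, fun j hj => absurd (Set.mem_univ j) hj⟩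
    obtain rfl : j = 0 := Subsingleton.elim _ _
    exact h2

variable (hA : Amb S P U)
include hA

theorem norm_root : S ≤ normalizer (ln N Set.univ : Set G) := by
  have key : ∀ s ∈ S, ∀ v ∈ ln N Set.univ, s * v * s⁻¹ ∈ ln N Set.univ := by
    intro s hs v hv
    rw [mem_root] at hv ⊢
    obtain ⟨σ, hσ⟩ := N.line s hs
    refine ⟨hA.conj_mem (hA.TH hs) hv.1, ?_⟩
    have h1 := (hσ v hv.1 0).2 hv.2
    have h2 : σ 0 = 0 := Subsingleton.elim _ _
    rwa [h2] at h1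
  intro s hs
  rw [mem_normalizer_iff]
  intro v
  refine ⟨key s hs v, fun h => ?_⟩
  have h1 := key s⁻¹ (inv_mem hs) _ h
  have e1 : s⁻¹ * (s * v * s⁻¹) * s⁻¹⁻¹ = v := by group
  rwa [e1] at h1

/-- **`S` acts semilinearly on the root line.** -/
theorem semi [Finite F] {s : G} (hs : s ∈ S) : (lineF N).Semi s := by
  have hsP := hA.TH hs
  obtain ⟨σ, hσ⟩ := N.perm s hsP
  have h0 : σ 0 = 0 := Subsingleton.elim _ _
  obtain ⟨τ, hτ⟩ := exists_semi (M := N.toNatK) hA hsP hσ 0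
  rw [h0] at hτ
  refine ⟨ph N.toNatK s 0 0 ![1, 0] 0, τ, fun x => ?_⟩
  have hm : ∀ y : F, em N.toNatK 0 ![y, 0] ∈ ln N Set.univ := fun y => ((lineF N).mem _).2 ⟨y, rfl⟩
  have h1 := (mem_normalizer_iff.1 (norm_root hA hs) _).1 (hm x)
  obtain ⟨y, hy⟩ := ((lineF N).mem _).1 h1
  have hy' : em N.toNatK 0 ![y, 0] = s * em N.toNatK 0 ![x, 0] * s⁻¹ := hy
  change s * em N.toNatK 0 ![x, 0] * s⁻¹ = em N.toNatK 0 ![_, 0]
  rw [← hy']
  congr 2
  have h2 : N.e (s * em N.toNatK 0 ![x, 0] * s⁻¹) 0 = τ x • ph N.toNatK s 0 0 ![1, 0] := by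
    rw [← hτ]
    have e1 : (x • ![1, 0] : Fin 2 → F) = ![x, 0] := by ext i; fin_cases i <;> simp
    rw [e1]; rfl
  rw [← hy', e_em_self] at h2
  have h3 := congrFun h2 0
  simp only [Matrix.cons_val_zero, Pi.smul_apply, smul_eq_mul] at h3
  rw [h3, mul_comm]

/-- The elements of `P` acting as elements of `SL₂(F)`. -/
def slg (N : NatKM F S P U ⊥ 1) (hPU : P ≤ normalizer (U : Set G)) : Subgroup G where
  carrier := {g | g ∈ P ∧ ∃ A, Ac N g A}
  mul_mem' := by
    rintro a b ⟨ha, A, hA⟩ ⟨hb, B, hB⟩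
    exact ⟨mul_mem ha hb, A * B, hA.mul hPU hb hB⟩
  one_mem' := ⟨one_mem _, 1, ac_one (one_mem _)⟩
  inv_mem' := by
    rintro a ⟨ha, A, hA⟩
    exact ⟨inv_mem ha, A⁻¹, hA.inv hPU ha⟩

theorem mem_slg {hPU : P ≤ normalizer (U : Set G)} {g : G} : g ∈ slg N hPU ↔ g ∈ P ∧ ∃ A, Ac N g A := Iff.rfl

theorem slg_le {hPU : P ≤ normalizer (U : Set G)} : slg N hPU ≤ P := fun _ h => h.1

theorem slg_conj {hPU : P ≤ normalizer (U : Set G)} {g h : G} (hg : g ∈ P) (hh : h ∈ slg N hPU) :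
    g * h * g⁻¹ ∈ slg N hPU := by
  obtain ⟨hh1, A, hA'⟩ := hh
  obtain ⟨B, hB⟩ := N.norm g hg h hh1 A hA'
  exact ⟨mul_mem (mul_mem hg hh1) (inv_mem hg), B, hB⟩

omit hA in
theorem cent_le_slg {hPU : P ≤ normalizer (U : Set G)} : P ⊓ centralizer (U : Set G) ≤ slg N hPU :=
  fun _ hg => ⟨hg.1, 1, ac_one hg.2⟩

/-- a 2-element of `SL₂(F)` which fixes the root line centralises it -/
theorem inf_slg_le [Finite F] [CharP F 2] (hS : IsPGroup 2 S) {hPU : P ≤ normalizer (U : Set G)} :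
    S ⊓ slg N hPU ≤ centralizer (ln N Set.univ : Set G) := by
  rintro s ⟨hs, hsP, A, hsA⟩
  -- `s` acts as a scalar
  set L := lineF N with hL
  have hm : ∀ y : F, L.e y ∈ ln N Set.univ := fun y => (L.mem _).2 ⟨y, rfl⟩
  have hU : ∀ y : F, L.e y ∈ U := fun y => (mem_root.1 (hm y)).1
  have he : ∀ y : F, N.e (L.e y) 0 = ![y, 0] := fun y => e_em_self _ _ _
  have h1 : ∀ y, s * L.e y * s⁻¹ = L.e (ap (A 0) ![1, 0] 0 * y) := by
    intro y
    obtain ⟨y', hy'⟩ := (L.mem _).1 ((mem_normalizer_iff.1 (norm_root hA hs) _).1 (hm y))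
    rw [← hy']
    have h2 := hsA _ (hU y) 0
    rw [← hy', he, he] at h2
    have e1 : (![y, 0] : Fin 2 → F) = y • ![1, 0] := by ext i; fin_cases i <;> simp
    rw [e1, ap_smul] at h2
    have h3 := congrFun h2 0
    simp only [Matrix.cons_val_zero, Pi.smul_apply, smul_eq_mul] at h3
    rw [h3, mul_comm]
  set a : F := ap (A 0) ![1, 0] 0 with ha
  have h2 : ∀ (n : ℕ) (y : F), (s ^ n) * L.e y * (s ^ n)⁻¹ = L.e (a ^ n * y) := by
    intro n
    induction n with
    | zero => intro y; simp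
    | succ n ih =>
      intro y
      rw [pow_succ]
      calc s ^ n * s * L.e y * (s ^ n * s)⁻¹ = s ^ n * (s * L.e y * s⁻¹) * (s ^ n)⁻¹ := by group
        _ = _ := by rw [h1, ih, pow_succ, mul_assoc]
  obtain ⟨k, hk⟩ := hS ⟨s, hs⟩
  have hk' : s ^ 2 ^ k = 1 := by
    have := congrArg Subtype.val hk
    simpa using this
  have h3 : a ^ 2 ^ k = 1 := by
    have h4 := h2 (2 ^ k) 1
    rw [hk'] at h4
    have h5 := L.inj (h4.symm.trans (by simp : (1 : G) * L.e 1 * (1 : G)⁻¹ = L.e 1))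
    rwa [mul_one] at h5
  have h4 : a = 1 := by
    have h5 := (iterateFrobenius F 2 k).injective
    refine h5 ?_
    rw [iterateFrobenius_def, iterateFrobenius_def, h3, one_pow]
  refine mem_centralizer_iff.2 fun r hr => ?_
  obtain ⟨y, rfl⟩ := (L.mem r).1 hr
  have h5 := h1 y
  rw [h4, one_mul] at h5
  exact (conj_comm h5).symm

/-- **`T` is Sylow in `T (slg N)`** if `C_S(R) ≤ T ≤ S`. -/
theorem syl_sup_slg [Finite G] [Finite F] [CharP F 2] (hSP : Syl S P) {hPU : P ≤ normalizer (U : Set G)}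
    {T : Subgroup G} (hTS : T ≤ S) (hT : S ⊓ centralizer (ln N Set.univ : Set G) ≤ T) : Syl T (T ⊔ slg N hPU) := by
  have hS2 : IsPGroup 2 S := hSP.2.1
  have hN1 : S ⊓ slg N hPU ≤ T := (le_inf inf_le_left (inf_slg_le hA hS2)).trans hT
  have hSyl : Syl (S ⊓ slg N hPU) (slg N hPU) := syl_inf hSP (slg_le hA) fun h hh n hn => slg_conj hA hh hn
  have hTN : T ≤ normalizer (slg N hPU : Set G) := by
    intro t ht
    have htP : t ∈ P := hA.TH (hTS ht)
    rw [mem_normalizer_iff]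
    intro x
    refine ⟨fun hx => slg_conj hA htP hx, fun hx => ?_⟩
    have h1 := slg_conj hA (inv_mem htP) hx
    have e1 : t⁻¹ * (t * x * t⁻¹) * t⁻¹⁻¹ = x := by group
    rwa [e1] at h1
  refine ⟨le_sup_left, hS2.to_le hTS, fun Q hQ hQ2 hTQ => ?_⟩
  have hQN : Q ⊓ slg N hPU = S ⊓ slg N hPU :=
    hSyl.2.2 _ inf_le_right (hQ2.to_le inf_le_left) (le_inf (hN1.trans hTQ) inf_le_right)
  refine le_antisymm (fun x hx => ?_) hTQ
  obtain ⟨t, ht, n, hn, rfl⟩ := mem_sup_norm hTN (hQ hx)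
  have h1 : n ∈ Q := by
    have := mul_mem (inv_mem (hTQ ht)) hx
    rwa [inv_mul_cancel_left] at this
  have h2 : n ∈ S ⊓ slg N hPU := by rw [← hQN]; exact ⟨h1, hn⟩
  exact mul_mem ht (hN1 h2)

/-- **Fusion**: `N_P(T)` is transitive on the involutions of `Ω₁ Z(T)` in the root line (`C_S(R) ≤ T ≤ S`). -/
theorem fuse [Finite G] [Finite F] [CharP F 2] (hSP : Syl S P) {T : Subgroup G}
    (hTS : T ≤ S) (hT : S ⊓ centralizer (ln N Set.univ : Set G) ≤ T) {a b : G} (ha : a ∈ U) (hb : b ∈ U)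
    (haT : ∀ t ∈ T, t * a = a * t) (hbT : ∀ t ∈ T, t * b = b * t) (ha1 : a ≠ 1) (hb1 : b ≠ 1) :
    ∃ g ∈ P, g ∈ normalizer (T : Set G) ∧ g * a * g⁻¹ = b := by
  have hPU := hA.HV
  have hea : N.e a 0 ≠ 0 := by
    intro h
    refine ha1 (e_inj (M := N) ha (one_mem _) ?_)
    rw [e_one]
    funext j
    obtain rfl : j = 0 := Subsingleton.elim _ _
    exact h
  have heb : N.e b 0 ≠ 0 := by
    intro h
    refine hb1 (e_inj (M := N) hb (one_mem _) ?_)
    rw [e_one]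
    funext j
    obtain rfl : j = 0 := Subsingleton.elim _ _
    exact h
  obtain ⟨A, hAab⟩ := exists_ap hea heb
  obtain ⟨g, hg, hgA, -⟩ := N.lift fun _ => A
  have hgs : g ∈ slg N hPU := ⟨hg, _, hgA⟩
  have hgab : g * a * g⁻¹ = b := by
    refine e_inj (M := N) (hA.conj_mem hg ha) hb ?_
    funext j
    obtain rfl : j = 0 := Subsingleton.elim _ _
    rw [hgA a ha 0, hAab]
  have hSyl := syl_sup_slg hA hSP (hPU := hPU) hTS hT
  set P₀ := T ⊔ slg N hPU with hP₀
  have hP₀P : P₀ ≤ P := sup_le (hTS.trans hA.TH) (slg_le hA)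
  have hgP₀ : g ∈ P₀ := le_sup_right (a := T) hgs
  have hcj : cj g P₀ = P₀ := cj_eq_of_mem_normalizer (le_normalizer hgP₀)
  have h1 : Syl (cj g T) P₀ := by
    refine ⟨?_, isPGroup_cj g hSyl.2.1, fun Q hQ hp hTQ => ?_⟩
    · rw [← hcj]; exact cj_mono g hSyl.1
    · have h3 := cj_mono g⁻¹ hQ
      have h4 : cj g⁻¹ P₀ = P₀ := cj_eq_of_mem_normalizer (le_normalizer (inv_mem hgP₀))
      rw [h4] at h3
      have h2 := hSyl.2.2 (cj g⁻¹ Q) h3 (isPGroup_cj _ hp) (cj_le_iff.1 hTQ)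
      rw [← h2, cj_cj_inv]
  have hC1 : cj g T ≤ centralizer ({b} : Set G) := by
    rintro _ ⟨t, ht, rfl⟩
    rw [mem_centralizer_singleton_iff]
    change g * t * g⁻¹ * b = b * (g * t * g⁻¹)
    rw [← hgab]
    calc g * t * g⁻¹ * (g * a * g⁻¹) = g * (t * a) * g⁻¹ := by group
      _ = g * (a * t) * g⁻¹ := by rw [haT t ht]
      _ = _ := by group
  have hC2 : T ≤ centralizer ({b} : Set G) := fun t ht => by
    rw [mem_centralizer_singleton_iff]; exact hbT t ht
  obtain ⟨c, hc, e⟩ := syl_conj (syl_le h1 (le_inf h1.1 hC1) inf_le_left)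
    (syl_le hSyl (le_inf hSyl.1 hC2) inf_le_left : Syl T (P₀ ⊓ centralizer ({b} : Set G)))
  rw [cj_cj] at e
  refine ⟨c * g, mul_mem (hP₀P hc.1) hg, mem_normalizer_iff_cj.2 e, ?_⟩
  have hcb : c * b = b * c := mem_centralizer_singleton_iff.1 (show c ∈ centralizer ({b} : Set G) from hc.2)
  calc c * g * a * (c * g)⁻¹ = c * (g * a * g⁻¹) * c⁻¹ := by group
    _ = b := by rw [hgab, hcb]; group

end one

end Cfsg.Agent.Omega.NOThreeL.RLow.KOne

end

section


/-!
# [R-low], #21762 (0): normal subgroups of odd order transitive on the vectors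

`Γ` finite, faithful on the elementary abelian 2-group `E`, `D` normal in `Γ` of odd order and
transitive on the nonzero vectors.  Then there is a cyclic `K ⊴ Γ`, `K ≤ D`, fixed-point-free,
self-centralising in `D`, with `⁅D, Γ⁆ ≤ K`.
-/

set_option autoImplicit false

namespace Cfsg.Agent.Omega.NOThreeL.RLow.TransOdd

open Cfsg.Agent.Lib.Cores Cfsg.Agent.LieRecognition
open scoped commutatorElement

variable {Γ E : Type*} [Group Γ] [Finite Γ] [AddCommGroup E] [Finite E]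
    [DistribMulAction Γ E] [FaithfulSMul Γ E]

/-- #21762 (0). -/
theorem core [Nontrivial E] (D : Subgroup Γ) [hDn : D.Normal] (hodd : Odd (Nat.card D))
    (h2 : ∀ e : E, 2 • e = 0)
    (htr : ∀ a b : E, a ≠ 0 → b ≠ 0 → ∃ d ∈ D, d • a = b) :
    ∃ K : Subgroup Γ, K ≤ D ∧ K.Normal ∧ IsCyclic K ∧
      (∀ g ∈ K, g ≠ 1 → ∀ e : E, g • e = e → e = 0) ∧
      (∀ d ∈ D, (∀ k ∈ K, d * k = k * d) → d ∈ K) ∧
      (∀ d ∈ D, ∀ t : Γ, d * t * d⁻¹ * t⁻¹ ∈ K) := by
  have hf : FaithfulSMul D E := ⟨fun {x y} h => Subtype.ext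
    (FaithfulSMul.eq_of_smul_eq_smul (fun e : E => h e))⟩
  have htr' : ∀ a b : E, a ≠ 0 → b ≠ 0 → ∃ d : D, d • a = b := by
    intro a b ha hb
    obtain ⟨d, hd, h⟩ := htr a b ha hb
    exact ⟨⟨d, hd⟩, h⟩
  obtain ⟨hcyc, hfree⟩ :=
    OddTransFitting.fitting_isCyclic_and_free (D := D) (E := E) hodd Nat.prime_two h2 htr'
  have : Group.IsSolvable D := FT61.Main.isSolvable hodd Nat.prime_two h2 htr'
  have hcent := Cfsg.Agent.S0044.centralizer_fitting_le D fittingSubgroup_normal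
  have hch : (Cfsg.fittingSubgroup D).Characteristic := fittingSubgroup_characteristic
  set K : Subgroup Γ := (Cfsg.fittingSubgroup D).map D.subtype with hK
  have hKn : K.Normal := by rw [hK]; infer_instance
  have hKc : IsCyclic K := by
    rw [hK]
    exact isCyclic_of_surjective
      ((Cfsg.fittingSubgroup D).equivMapOfInjective D.subtype D.subtype_injective).toMonoidHom
      (MulEquiv.surjective _)
  have hKD : K ≤ D := Subgroup.map_subtype_le _
  have hself : ∀ d ∈ D, (∀ k ∈ K, d * k = k * d) → d ∈ K := by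
    intro d hd h
    refine ⟨⟨d, hd⟩, hcent ?_, rfl⟩
    rw [Subgroup.mem_centralizer_iff]
    intro k hk
    apply Subtype.ext
    exact (h k ⟨k, hk, rfl⟩).symm
  refine ⟨K, hKD, hKn, hKc, ?_, hself, ?_⟩
  · rintro g ⟨k, hk, rfl⟩ hg1 e he
    exact hfree k hk (fun h => hg1 (by rw [h]; rfl)) e he
  · intro d hd t
    apply hself
    · have h1 : t * d⁻¹ * t⁻¹ ∈ D := hDn.conj_mem _ (D.inv_mem hd) t
      have : d * t * d⁻¹ * t⁻¹ = d * (t * d⁻¹ * t⁻¹) := by group
      rw [this]; exact D.mul_mem hd h1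
    · intro k hk
      -- conjugation by any two elements commutes on the cyclic `K`
      have hpow : ∀ g : Γ, ∃ m : ℤ, ∀ k ∈ K, g * k * g⁻¹ = k ^ m := by
        intro g
        obtain ⟨⟨z, hz⟩, hgen⟩ := hKc.exists_generator
        obtain ⟨m, hm⟩ := Subgroup.mem_zpowers_iff.1 (hgen ⟨g * z * g⁻¹, hKn.conj_mem z hz g⟩)
        have hm' : z ^ m = g * z * g⁻¹ := congrArg Subtype.val hm
        refine ⟨m, fun k hk => ?_⟩
        obtain ⟨n, hn⟩ := Subgroup.mem_zpowers_iff.1 (hgen ⟨k, hk⟩)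
        have hn' : z ^ n = k := congrArg Subtype.val hn
        rw [← hn', ← zpow_mul, mul_comm n m, zpow_mul, hm', conj_zpow]
      obtain ⟨m, hm⟩ := hpow d
      obtain ⟨n, hn⟩ := hpow t
      have key : ∀ k ∈ K, d * (t * k * t⁻¹) * d⁻¹ = t * (d * k * d⁻¹) * t⁻¹ := by
        intro k hk
        rw [hn k hk, hm k hk, hm (k ^ n) (K.zpow_mem hk n), hn (k ^ m) (K.zpow_mem hk m),
          ← zpow_mul, ← zpow_mul, mul_comm]
      have hk' : t⁻¹ * k * t ∈ K := by
        have := hKn.conj_mem k hk t⁻¹; simpa using this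
      have hk'' : d⁻¹ * (t⁻¹ * k * t) * d ∈ K := by
        have := hKn.conj_mem _ hk' d⁻¹; simpa using this
      have h3 := key _ hk''
      have h4 : d * (t * (d⁻¹ * (t⁻¹ * k * t) * d) * t⁻¹) * d⁻¹
          = (d * t * d⁻¹ * t⁻¹) * k * (d * t * d⁻¹ * t⁻¹)⁻¹ := by group
      have h5 : t * (d * (d⁻¹ * (t⁻¹ * k * t) * d) * d⁻¹) * t⁻¹ = k := by group
      rw [h4, h5] at h3
      exact mul_inv_eq_iff_eq_mul.1 h3

/-- #21762 (3b): a subgroup with a common fixed vector has its odd part in the centre. -/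
theorem central_of_fix [Nontrivial E] (D : Subgroup Γ) [hDn : D.Normal]
    (hodd : Odd (Nat.card D)) (h2 : ∀ e : E, 2 • e = 0)
    (htr : ∀ a b : E, a ≠ 0 → b ≠ 0 → ∃ d ∈ D, d • a = b)
    (P : Subgroup Γ) (e : E) (he : e ≠ 0) (hPe : ∀ p ∈ P, p • e = e) :
    ∀ d ∈ D, d ∈ P → ∀ p ∈ P, d * p = p * d := by
  obtain ⟨K, -, -, -, hfree, -, hcomm⟩ := core D hodd h2 htr
  intro d hd hdP p hp
  by_contra hne
  have hmem : d * p * d⁻¹ * p⁻¹ ∈ P :=
    P.mul_mem (P.mul_mem (P.mul_mem hdP hp) (P.inv_mem hdP)) (P.inv_mem hp)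
  refine he (hfree _ (hcomm d hd p) (fun h => hne ?_) e (hPe _ hmem))
  have h1 : d * p * d⁻¹ = p := mul_inv_eq_one.1 h
  exact mul_inv_eq_iff_eq_mul.1 h1

/-- Burnside: a cyclic Sylow 2-subgroup has a normal complement (of odd order). -/
theorem exists_complement {Γ : Type*} [Group Γ] [Finite Γ] (T : Sylow 2 Γ)
    (hcyc : IsCyclic (T : Subgroup Γ)) :
    ∃ D : Subgroup Γ, D.Normal ∧ Odd (Nat.card D) ∧
      (∀ g : Γ, ∃ d ∈ D, ∃ t ∈ (T : Subgroup Γ), g = d * t) ∧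
      Nat.card Γ = Nat.card D * Nat.card (T : Subgroup Γ) := by
  by_cases h2 : 2 ∣ Nat.card Γ
  · have hmin : (Nat.card Γ).minFac = 2 := (Nat.minFac_eq_two_iff _).2 h2
    have hle := IsCyclic.normalizer_le_centralizer hmin hcyc
    have hc := MonoidHom.ker_transferSylow_isComplement' T hle
    have hnd := MonoidHom.not_dvd_card_ker_transferSylow T hle
    refine ⟨(MonoidHom.transferSylow T hle).ker, inferInstance, ?_, ?_, ?_⟩
    · rw [← Nat.not_even_iff_odd, even_iff_two_dvd]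
      exact hnd
    · intro g
      obtain ⟨⟨d, t⟩, hdt⟩ := hc.2 g
      exact ⟨d, d.2, t, t.2, hdt.symm⟩
    · exact hc.card_mul_card.symm
  · have hT : (T : Subgroup Γ) = ⊥ := by
      rw [← Subgroup.card_eq_one]
      obtain ⟨n, hn⟩ := (IsPGroup.iff_card.1 T.isPGroup')
      rcases Nat.eq_zero_or_pos n with h0 | h0
      · rw [hn, h0, pow_zero]
      · exfalso
        apply h2
        have h3 : Nat.card (T : Subgroup Γ) ∣ Nat.card Γ := Subgroup.card_subgroup_dvd_card _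
        rw [hn] at h3
        exact (dvd_pow_self 2 h0.ne').trans h3
    refine ⟨⊤, inferInstance, ?_, fun g => ⟨g, trivial, 1, Subgroup.one_mem _, by simp⟩, ?_⟩
    · rw [Subgroup.card_top, ← Nat.not_even_iff_odd, even_iff_two_dvd]
      exact h2
    · rw [hT]; simp

/-- A normal subgroup of 2-power index in a group transitive on the nonzero vectors is transitive. -/
theorem trans_normal {Γ E : Type*} [Group Γ] [Finite Γ] [AddCommGroup E] [Finite E]
    [DistribMulAction Γ E] (D : Subgroup Γ) [hDn : D.Normal] (n : ℕ) (hD : D.index ∣ 2 ^ n)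
    (h2 : ∀ e : E, 2 • e = 0)
    (htr : ∀ a b : E, a ≠ 0 → b ≠ 0 → ∃ g : Γ, g • a = b) :
    ∀ a b : E, a ≠ 0 → b ≠ 0 → ∃ d ∈ D, d • a = b := by
  intro a b ha hb
  have horb : MulAction.orbit Γ a = {x : E | x ≠ 0} := by
    ext x
    constructor
    · rintro ⟨g, rfl⟩ h0
      exact ha ((smul_eq_zero_iff_eq g).1 h0)
    · intro hx
      obtain ⟨g, hg⟩ := htr a x ha hx
      exact ⟨g, hg⟩
  have hcard : (MulAction.stabilizer Γ a).index + 1 = Nat.card E := by
    rw [MulAction.index_stabilizer, horb]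
    have h1 : {x : E | x ≠ 0} = ({0} : Set E)ᶜ := rfl
    rw [h1, Set.ncard_compl, Set.ncard_singleton]
    have : 0 < Nat.card E := Nat.card_pos
    omega
  have heven : 2 ∣ Nat.card E := by
    have ho : addOrderOf a = 2 := by
      apply addOrderOf_eq_prime (h2 a) ha
    rw [← ho]
    exact addOrderOf_dvd_natCard a
  have hodd : Nat.Coprime (MulAction.stabilizer Γ a).index (2 ^ n) := by
    apply Nat.Coprime.pow_right
    rw [Nat.coprime_comm, Nat.coprime_two_left, ← Nat.not_even_iff_odd, even_iff_two_dvd]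
    omega
  have htop : D ⊔ MulAction.stabilizer Γ a = ⊤ := by
    rw [← Subgroup.index_eq_one]
    refine Nat.eq_one_of_dvd_coprimes hodd ?_ ?_
    · exact Subgroup.index_dvd_of_le le_sup_right
    · exact (Subgroup.index_dvd_of_le le_sup_left).trans hD
  obtain ⟨g, hg⟩ := htr a b ha hb
  have hg' : g ∈ D ⊔ MulAction.stabilizer Γ a := by rw [htop]; trivial
  obtain ⟨d, hd, s, hs, rfl⟩ := Subgroup.mem_sup_of_normal_left.1 hg'
  refine ⟨d, hd, ?_⟩
  rw [← hg, mul_smul, MulAction.mem_stabilizer_iff.1 hs]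

end Cfsg.Agent.Omega.NOThreeL.RLow.TransOdd

end

section


/-!
# [R-low], #21762 (3b): the linear part of the case `k = 1`

`H` acts on the elementary abelian 2-group `K`, transitively on the nonzero vectors, a Sylow
2-subgroup `T` has cyclic image, `T ≤ R` and `R` fixes a nonzero vector: then the images of `R` and
of `T` commute.
-/

set_option autoImplicit false

namespace Cfsg.Agent.Omega.NOThreeL.RLow.KOneAbs

open Cfsg.Agent.Omega.NOThreeL.RLow

/-- #21762 (0) + (3b), linear part (`hcyc`: the image of `T` is generated by the image of `s`). -/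
theorem comm_of' {H K : Type*} [Group H] [Finite H] [AddCommGroup K] [Finite K]
    [DistribMulAction H K] (h2 : ∀ k : K, k + k = 0) (T : Sylow 2 H) (s : H)
    (hs : s ∈ (T : Subgroup H))
    (hcyc : ∀ t ∈ (T : Subgroup H), ∃ n : ℤ, ∀ k : K, t • k = (s ^ n) • k)
    (htr : ∀ a b : K, a ≠ 0 → b ≠ 0 → ∃ h : H, h • a = b) (R : Subgroup H)
    (hTR : (T : Subgroup H) ≤ R) (e : K) (he : e ≠ 0) (hR : ∀ r ∈ R, r • e = e) :
    ∀ r ∈ R, ∀ t ∈ (T : Subgroup H), ∀ k : K, r • t • k = t • r • k := by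
  classical
  have h2' : ∀ k : K, 2 • k = 0 := fun k => by rw [two_nsmul]; exact h2 k
  have : Nontrivial K := ⟨⟨e, 0, he⟩⟩
  let f : H →* (AddMonoid.End K)ˣ := (DistribMulAction.toAddMonoidEnd H K).toHomUnits
  let g : H →* f.range := f.rangeRestrict
  have hg : Function.Surjective g := f.rangeRestrict_surjective
  have hfin : Finite f.range := Finite.of_surjective g hg
  have hact : ∀ (h : H) (k : K), g h • k = h • k := fun h k => rfl
  have hfaith : FaithfulSMul f.range K := inferInstance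
  let T' : Sylow 2 f.range := T.mapSurjective hg
  have hT' : (T' : Subgroup f.range) = (T : Subgroup H).map g := rfl
  have hcyc' : IsCyclic (T' : Subgroup f.range) := by
    have hgs : g s ∈ (T' : Subgroup f.range) := by rw [hT']; exact ⟨s, hs, rfl⟩
    refine ⟨⟨g s, hgs⟩, ?_⟩
    rintro ⟨x, hx⟩
    have hx' := hx
    rw [hT'] at hx'
    obtain ⟨t, ht, rfl⟩ := hx'
    obtain ⟨n, hn⟩ := hcyc t ht
    refine ⟨n, Subtype.ext ?_⟩
    show (g s) ^ n = g t
    rw [← map_zpow]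
    apply FaithfulSMul.eq_of_smul_eq_smul (α := K)
    intro k
    rw [hact, hact, hn]
  obtain ⟨D, hDn, hodd, hDT, hcard⟩ := TransOdd.exists_complement T' hcyc'
  have hidx : ∃ n, D.index ∣ 2 ^ n := by
    obtain ⟨n, hn⟩ := IsPGroup.iff_card.1 T'.isPGroup'
    refine ⟨n, ?_⟩
    have h1 := D.card_mul_index
    rw [hcard] at h1
    have h3 : 0 < Nat.card D := Nat.card_pos
    rw [Nat.eq_of_mul_eq_mul_left h3 h1]
    exact dvd_of_eq hn
  obtain ⟨n, hn⟩ := hidx
  have htr' : ∀ a b : K, a ≠ 0 → b ≠ 0 → ∃ x : f.range, x • a = b := by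
    intro a b ha hb
    obtain ⟨h, hh⟩ := htr a b ha hb
    exact ⟨g h, hh⟩
  have htrD := TransOdd.trans_normal D n hn h2' htr'
  have hcen := TransOdd.central_of_fix D hodd h2' htrD (R.map g) e he (by
    rintro _ ⟨r, hr, rfl⟩
    exact hR r hr)
  intro r hr t ht k
  obtain ⟨d, hd, t₁, ht₁, hdt⟩ := hDT (g r)
  have hrR : g r ∈ R.map g := ⟨r, hr, rfl⟩
  have ht₁R : t₁ ∈ R.map g := by
    rw [hT'] at ht₁
    exact Subgroup.map_mono hTR ht₁
  have hdR : d ∈ R.map g := by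
    have : d = g r * t₁⁻¹ := by rw [hdt]; group
    rw [this]
    exact (R.map g).mul_mem hrR ((R.map g).inv_mem ht₁R)
  have htT' : g t ∈ (T' : Subgroup f.range) := by rw [hT']; exact ⟨t, ht, rfl⟩
  have htR : g t ∈ R.map g := ⟨t, hTR ht, rfl⟩
  have c1 : d * g t = g t * d := hcen d hd hdR _ htR
  have c2 : t₁ * g t = g t * t₁ := by
    have hcomm : IsMulCommutative (T' : Subgroup f.range) := inferInstance
    exact congrArg Subtype.val (hcomm.is_comm.comm ⟨t₁, ht₁⟩ ⟨g t, htT'⟩)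
  have c3 : g r * g t = g t * g r := by
    rw [hdt, mul_assoc, c2, ← mul_assoc, c1, mul_assoc]
  have h3 : (g r * g t) • k = (g t * g r) • k := by rw [c3]
  rw [mul_smul, mul_smul] at h3
  exact h3

/-- The same with `IsCyclic` of the image in the automorphism group. -/
theorem comm_of {H K : Type*} [Group H] [Finite H] [AddCommGroup K] [Finite K]
    [DistribMulAction H K] (h2 : ∀ k : K, k + k = 0) (T : Sylow 2 H)
    (hcyc : IsCyclic (((T : Subgroup H).map (DistribMulAction.toAddAut H K)) :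
      Subgroup (Multiplicative (AddAut K))))
    (htr : ∀ a b : K, a ≠ 0 → b ≠ 0 → ∃ h : H, h • a = b) (R : Subgroup H)
    (hTR : (T : Subgroup H) ≤ R) (e : K) (he : e ≠ 0) (hR : ∀ r ∈ R, r • e = e) :
    ∀ r ∈ R, ∀ t ∈ (T : Subgroup H), ∀ k : K, r • t • k = t • r • k := by
  obtain ⟨⟨_, s, hs, rfl⟩, hgen⟩ := hcyc.exists_generator
  refine comm_of' h2 T s hs (fun t ht => ?_) htr R hTR e he hR
  obtain ⟨n, hn⟩ := Subgroup.mem_zpowers_iff.1 (hgen ⟨_, t, ht, rfl⟩)
  refine ⟨n, fun k => ?_⟩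
  have h1 : (DistribMulAction.toAddAut H K s) ^ n = DistribMulAction.toAddAut H K t :=
    congrArg Subtype.val hn
  rw [← map_zpow] at h1
  have h3 : (DistribMulAction.toAddAut H K (s ^ n)).toAdd k
      = (DistribMulAction.toAddAut H K t).toAdd k := by rw [h1]
  exact h3.symm

end Cfsg.Agent.Omega.NOThreeL.RLow.KOneAbs

end

section


/-!
# THEOREM R-LOW (#21762), (3b): a line inside the root line of a natural line has no radical

`P, R ∈ P*(S)`, `V_P` natural (one summand, `C_{V_P}(O²(P)) = 1`), `V_R` contained in the root line `C_{V_P}(C_S(..))`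
of `V_P`, `C_Z(R) ≠ 1`: impossible.

* `zc_of_le` : `C_S(R₁) ≤ T ≤ S` ⟹ `Ω₁ Z(T) = C_{R₁}(T)` (`R₁` the root line);
* **`false_of_le_root`**.
-/

set_option autoImplicit false

namespace Cfsg.Agent.Omega.NOThreeL.RLow.KOne

open Subgroup Cfsg Cfsg.Agent.ZN Cfsg.Agent.ZN.ChoiceBase Cfsg.Agent.ZN.ChoiceSit
open Cfsg.Agent.Omega.MinPar
open Cfsg.Agent.Omega.IId.MixedK (conj_comm comm_conj)
open Cfsg.Agent.Omega.FFThm (NatK NatKM ActsSL)
open Cfsg.Agent.Omega.Half (Amb amb_of_loc)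
open Cfsg.Agent.Omega.NOThreeL.NF
open Cfsg.Agent.Omega.NOThreeL.NF.NatR
open Cfsg.Agent.Omega.NatPair (ap ap_zero')
open Cfsg.Agent.Lib.SL2Mat

universe u

variable {G : Type u} [Group G] [Finite G] {F : Type} [Field F] {S : Sylow 2 G} {P R : Subgroup G}
  {N : NatKM F (S : Subgroup G) P (zl (S : Subgroup G) P) ⊥ 1}

/-- `Z ≤ R₁` -/
theorem zc_le_root (hA : Amb (S : Subgroup G) P (zl (S : Subgroup G) P)) : zc (S : Subgroup G) ≤ ln N Set.univ := by
  intro z hz
  have hzU := hA.zc hz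
  refine mem_root.2 ⟨hzU, ?_⟩
  obtain ⟨t, ht, hact, -⟩ := N.unip fun _ => 1
  have h1 := hact z hzU 0
  have h2 : t * z * t⁻¹ = z := comm_conj ((ZN.mem_zc.1 hz).2.1 t ht)
  rw [h2, ap_up] at h1
  have h3 := congrFun h1 0
  simp only [Matrix.cons_val_zero, one_mul] at h3
  exact left_eq_add.1 h3

theorem syl_of_sylow (hP : (S : Subgroup G) ≤ P) : Syl (S : Subgroup G) P :=
  ⟨hP, S.isPGroup', fun Q _ hQ hSQ => (S.is_maximal' hQ hSQ)⟩

section

variable (hA : Amb (S : Subgroup G) P (zl (S : Subgroup G) P))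
include hA

theorem root_le : ln N Set.univ ≤ (S : Subgroup G) ⊓ centralizer (ln N Set.univ : Set G) := by
  refine le_inf ((ln_le _).trans hA.VT) fun x hx => mem_centralizer_iff.2 fun y hy => ?_
  exact hA.comm y (ln_le _ hy) x (ln_le _ hx)

/-- `Ω₁ Z(T) = C_{R₁}(T)` for `C_S(R₁) ≤ T ≤ S`. -/
theorem zc_of_le [Finite F] [CharP F 2] {T : Subgroup G} (hTS : T ≤ (S : Subgroup G))
    (hT : (S : Subgroup G) ⊓ centralizer (ln N Set.univ : Set G) ≤ T) :
    zc T = ln N Set.univ ⊓ centralizer (T : Set G) := by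
  have h0 := zc_inf_eq (lineF N) S.isPGroup' (norm_root hA) ((root_le hA).trans inf_le_left)
    (fun s hs => semi hA hs) (zc_le_root hA)
  have hRT : ln N Set.univ ≤ T := (root_le hA).trans hT
  refine le_antisymm (fun x hx => ?_) fun x hx => ?_
  · obtain ⟨hxT, hxc, hx2⟩ := ZN.mem_zc.1 hx
    have hx1 : x ∈ centralizer (ln N Set.univ : Set G) :=
      mem_centralizer_iff.2 fun r hr => hxc r (hRT hr)
    refine ⟨?_, mem_centralizer_iff.2 fun t ht => hxc t ht⟩
    change x ∈ ln N Set.univ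
    rw [← h0]
    exact ZN.mem_zc.2 ⟨⟨hTS hxT, hx1⟩, fun b hb => hxc b (hT hb), hx2⟩
  · obtain ⟨hx1, hx2⟩ := mem_inf.1 hx
    refine ZN.mem_zc.2 ⟨hRT hx1, fun b hb => mem_centralizer_iff.1 hx2 b hb, hA.sq x (ln_le _ hx1)⟩

end

/-- `Ω₁ Z(T)` is commutative -/
@[reducible] def zcComm (T : Subgroup G) : CommGroup ↥(zc T) :=
  { (inferInstance : Group ↥(zc T)) with
    mul_comm := fun x y => Subtype.ext ((ZN.mem_zc.1 y.2).2.1 x (ZN.zc_le T x.2)) }

/-- the conjugation action of `N_G(T)` on `Ω₁ Z(T)` -/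
@[reducible] def act (T : Subgroup G) : DistribMulAction ↥(normalizer (T : Set G)) (Additive ↥(zc T)) where
  smul h k := Additive.ofMul ⟨(h : G) * (Additive.toMul k : ↥(zc T)) * (h : G)⁻¹,
    (mem_normalizer_iff.1 (MinSimple.VModule.normalizer_le_normalizer_zc T h.2) _).1 (Additive.toMul k).2⟩
  one_smul k := by
    apply Additive.toMul.injective
    apply Subtype.ext
    change (1 : G) * (Additive.toMul k : ↥(zc T)) * (1 : G)⁻¹ = _
    group
  mul_smul g h k := by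
    apply Additive.toMul.injective
    apply Subtype.ext
    change ((g * h : ↥(normalizer (T : Set G))) : G) * (Additive.toMul k : ↥(zc T)) *
      ((g * h : ↥(normalizer (T : Set G))) : G)⁻¹ = (g : G) * ((h : G) * (Additive.toMul k : ↥(zc T)) * (h : G)⁻¹) * (g : G)⁻¹
    rw [Subgroup.coe_mul]; group
  smul_zero h := by
    apply Additive.toMul.injective
    apply Subtype.ext
    change (h : G) * 1 * (h : G)⁻¹ = 1
    group
  smul_add h k l := by
    apply Additive.toMul.injective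
    apply Subtype.ext
    change (h : G) * ((Additive.toMul k : ↥(zc T)) * (Additive.toMul l : ↥(zc T)) : G) * (h : G)⁻¹ =
      (h : G) * (Additive.toMul k : ↥(zc T)) * (h : G)⁻¹ * ((h : G) * (Additive.toMul l : ↥(zc T)) * (h : G)⁻¹)
    group

/-- **(3b)**: a line inside the root line has no radical. -/
theorem false_of_le_root [Finite F] [CharP F 2] (hc : IsCharacteristicTwoType G)
    (hP : IsParS (S : Subgroup G) P) (N : NatKM F (S : Subgroup G) P (zl (S : Subgroup G) P) ⊥ 1)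
    (hR : IsParS (S : Subgroup G) R) (hz : zc (S : Subgroup G) ⊓ centralizer (R : Set G) ≠ ⊥)
    (hl : zl (S : Subgroup G) R ≤ ln N Set.univ) : False := by
  have hA := amb_of_loc hc S hP.isLoc
  set T : Subgroup G := o2 R with hTdef
  have hTeq : (S : Subgroup G) ⊓ centralizer (zl (S : Subgroup G) R : Set G) = T := hR.inf_centralizer S hc
  have hTS : T ≤ (S : Subgroup G) := by rw [← hTeq]; exact inf_le_left
  have hT : (S : Subgroup G) ⊓ centralizer (ln N Set.univ : Set G) ≤ T := by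
    rw [← hTeq]
    exact inf_le_inf_left _ (centralizer_le hl)
  have hzT := zc_of_le hA hTS hT
  have hzT' : ∀ x ∈ zc T, x ∈ ln N Set.univ := fun x hx => by
    rw [hzT] at hx
    exact hx.1
  have hSyl : Syl (S : Subgroup G) P := syl_of_sylow hP.le
  have hZT : zc (S : Subgroup G) ≤ zc T := by
    rw [hzT]
    exact le_inf (zc_le_root hA) fun z hz => mem_centralizer_iff.2 fun t ht => (ZN.mem_zc.1 hz).2.1 t (hTS ht)
  have hRN : R ≤ normalizer (T : Set G) := MinSimple.VModule.le_normalizer_o2 R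
  have hSN : (S : Subgroup G) ≤ normalizer (T : Set G) := hR.le.trans hRN
  -- the action
  letI := zcComm T
  letI := act T
  have hsm : ∀ (h : ↥(normalizer (T : Set G))) (k : Additive ↥(zc T)),
      ((Additive.toMul (h • k) : ↥(zc T)) : G) = (h : G) * (Additive.toMul k : ↥(zc T)) * (h : G)⁻¹ :=
    fun _ _ => rfl
  obtain ⟨e, he, he1⟩ : ∃ e : G, e ∈ zc (S : Subgroup G) ⊓ centralizer (R : Set G) ∧ e ≠ 1 := by
    by_contra hcon
    push Not at hcon
    exact hz ((Subgroup.eq_bot_iff_forall _).2 hcon)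
  have he' : e ∈ zc T := hZT he.1
  obtain ⟨a, haS, hagen⟩ := (lineF N).exists_gen (S : Subgroup G) (fun s hs => semi hA hs) S.isPGroup'
  have key := KOneAbs.comm_of' (H := ↥(normalizer (T : Set G))) (K := Additive ↥(zc T)) ?_ (S.subtype hSN) ⟨a, hSN haS⟩ haS ?_ ?_
    (R.subgroupOf (normalizer (T : Set G))) ?_ (Additive.ofMul ⟨e, he'⟩) ?_ ?_
  · -- conclusion
    refine hR.not_zc ?_
    have hle : ∀ r ∈ R, ∀ z ∈ zc (S : Subgroup G), r * z * r⁻¹ ∈ zc (S : Subgroup G) := by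
      intro r hr z hz
      have h3 : r * z * r⁻¹ ∈ zc T := (mem_normalizer_iff.1
        (MinSimple.VModule.normalizer_le_normalizer_zc T (hRN hr)) z).1 (hZT hz)
      refine ZN.mem_zc.2 ⟨hTS (ZN.zc_le T h3), fun t ht => ?_, (ZN.mem_zc.1 h3).2.2⟩
      have h1 := key ⟨r, hRN hr⟩ hr ⟨t, hSN ht⟩ ht (Additive.ofMul ⟨z, hZT hz⟩)
      have h2 := congrArg (fun k : Additive ↥(zc T) => ((Additive.toMul k : ↥(zc T)) : G)) h1
      simp only [hsm] at h2
      change r * (t * z * t⁻¹) * r⁻¹ = t * (r * z * r⁻¹) * t⁻¹ at h2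
      rw [comm_conj ((ZN.mem_zc.1 hz).2.1 t ht)] at h2
      exact conj_comm h2.symm
    intro r hr
    rw [mem_normalizer_iff]
    intro z
    refine ⟨fun h => hle r hr z h, fun h => ?_⟩
    have h1 := hle r⁻¹ (inv_mem hr) _ h
    have e1 : r⁻¹ * (r * z * r⁻¹) * r⁻¹⁻¹ = z := by group
    rwa [e1] at h1
  · -- exponent 2
    intro k
    apply Additive.toMul.injective
    apply Subtype.ext
    change ((Additive.toMul k : ↥(zc T)) : G) * (Additive.toMul k : ↥(zc T)) = 1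
    rw [← pow_two]
    exact (ZN.mem_zc.1 (Additive.toMul k).2).2.2
  · -- cyclic
    intro b hb
    obtain ⟨n, hn⟩ := hagen (b : G) hb
    refine ⟨-n, fun k => ?_⟩
    apply Additive.toMul.injective
    apply Subtype.ext
    rw [hsm, hsm]
    have hk : ((Additive.toMul k : ↥(zc T)) : G) ∈ ln N Set.univ := hzT' _ (Additive.toMul k : ↥(zc T)).2
    have h2 := hn _ hk
    have e1 : (((⟨a, hSN haS⟩ : ↥(normalizer (T : Set G))) ^ (-n) : ↥(normalizer (T : Set G))) : G) = a ^ (-n) := by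
      rw [Subgroup.coe_zpow]
    rw [e1]
    have h3 : (b : G) * (Additive.toMul k : ↥(zc T)) = (a ^ n)⁻¹ * ((Additive.toMul k : ↥(zc T)) * (a ^ n * b)) := by
      rw [← h2]; group
    rw [h3, zpow_neg]
    group
  · -- transitive
    intro x y hx hy
    have hx' := (Additive.toMul x : ↥(zc T)).2
    have hy' := (Additive.toMul y : ↥(zc T)).2
    obtain ⟨-, hxc, -⟩ := ZN.mem_zc.1 hx'
    obtain ⟨-, hyc, -⟩ := ZN.mem_zc.1 hy'
    obtain ⟨g, -, hgT, hg⟩ := fuse hA hSyl hTS hT (ln_le _ (hzT' _ hx')) (ln_le _ (hzT' _ hy')) hxc hyc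
      (fun h => hx (Additive.toMul.injective (Subtype.ext h))) (fun h => hy (Additive.toMul.injective (Subtype.ext h)))
    refine ⟨⟨g, hgT⟩, ?_⟩
    apply Additive.toMul.injective
    apply Subtype.ext
    rw [hsm]
    exact hg
  · -- `S ≤ R`
    intro t ht
    exact hR.le ht
  · intro h
    exact he1 (congrArg (fun k : Additive ↥(zc T) => ((Additive.toMul k : ↥(zc T)) : G)) h)
  · intro r hr
    apply Additive.toMul.injective
    apply Subtype.ext
    rw [hsm]
    exact comm_conj (mem_centralizer_iff.1 he.2 r hr)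

end Cfsg.Agent.Omega.NOThreeL.RLow.KOne

end

section


/-!
# THEOREM R-LOW (#21762), (3a): the abstract end

`A ≤ T` an offender on `V`, `V / D` a sum of natural modules or of even-subset modules, `A` faithful on `V / D`,
`[V, A] ≤ R ≤ V`.  Then `|A : C_A(V)| ≤ |R : R ∩ D|` (`nat_card_le`, `sym_card_le`).

`Trv V A R` : `A` acts on `V` as a group of transvections with one axis and centre `R`, `|R| ≤ |A : C_A(V)|`; then
`A` is an offender (`Trv.offM`) and `R ∩ D = 1` (`Trv.false_nat`, `Trv.false_sym`) = (3a).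
-/

set_option autoImplicit false

namespace Cfsg.Agent.Omega.NOThreeL.RLow

open Subgroup Cfsg Cfsg.Agent.Omega.FFThm
open Cfsg.Agent.Omega.NatPair (ap)
open Cfsg.Agent.Lib.SL2Mat

universe u

variable {G : Type u} [Group G]

/-! ### Two counting lemmas -/

theorem card_le_of_fun [Finite G] {A C : Subgroup G} {X : Type*} [Finite X] (φ : A → X)
    (h : ∀ a b : A, φ a = φ b → (a : G)⁻¹ * b ∈ C) :
    Nat.card A ≤ Nat.card ↥(A ⊓ C) * Nat.card X := by
  have h1 : C.relIndex A ≤ Nat.card X := by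
    rw [relIndex, index]
    refine Nat.card_le_card_of_injective (fun q : A ⧸ C.subgroupOf A => φ q.out) ?_
    intro x y hxy
    have h2 := h _ _ hxy
    have h3 : (x.out : A ⧸ C.subgroupOf A) = y.out := by
      rw [QuotientGroup.eq, mem_subgroupOf]
      exact h2
    rwa [QuotientGroup.out_eq', QuotientGroup.out_eq'] at h3
  have h2 : C.relIndex A * Nat.card ↥(A ⊓ C) = Nat.card A := by
    have e := relIndex_inf_mul_relIndex (⊥ : Subgroup G) C A
    rw [relIndex_bot_left, bot_inf_eq, relIndex_bot_left, mul_comm, inf_comm] at e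
    exact e
  rw [← h2, mul_comm]
  exact Nat.mul_le_mul_left _ h1

theorem card_ge_of_fun [Finite G] {R D : Subgroup G} {X : Type*} [Finite X] (ψ : X → R)
    (h : ∀ x y : X, ((ψ x : G))⁻¹ * ψ y ∈ D → x = y) :
    Nat.card X * Nat.card ↥(R ⊓ D) ≤ Nat.card R := by
  have h1 : Nat.card X ≤ D.relIndex R := by
    rw [relIndex, index]
    refine Nat.card_le_card_of_injective (fun x : X => ((ψ x : R) : R ⧸ D.subgroupOf R)) ?_
    intro x y hxy
    have h2 : ((ψ x : R) : R ⧸ D.subgroupOf R) = (ψ y : R) := hxy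
    rw [QuotientGroup.eq, mem_subgroupOf] at h2
    exact h x y h2
  have h2 : D.relIndex R * Nat.card ↥(R ⊓ D) = Nat.card R := by
    have e := relIndex_inf_mul_relIndex (⊥ : Subgroup G) D R
    rw [relIndex_bot_left, bot_inf_eq, relIndex_bot_left, mul_comm, inf_comm] at e
    exact e
  rw [← h2]
  exact Nat.mul_le_mul_right _ h1

/-- the abstract inequality -/
theorem card_le_card [Finite G] {A C R D : Subgroup G} {X : Type*} [Finite X] (φ : A → X)
    (h : ∀ a b : A, φ a = φ b → (a : G)⁻¹ * b ∈ C) (ψ : X → R)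
    (h' : ∀ x y : X, ((ψ x : G))⁻¹ * ψ y ∈ D → x = y) :
    Nat.card A * Nat.card ↥(R ⊓ D) ≤ Nat.card ↥(A ⊓ C) * Nat.card R := by
  calc Nat.card A * Nat.card ↥(R ⊓ D) ≤ Nat.card ↥(A ⊓ C) * Nat.card X * Nat.card ↥(R ⊓ D) :=
        Nat.mul_le_mul_right _ (card_le_of_fun φ h)
    _ = Nat.card ↥(A ⊓ C) * (Nat.card X * Nat.card ↥(R ⊓ D)) := by ring
    _ ≤ _ := Nat.mul_le_mul_left _ (card_ge_of_fun ψ h')

/-! ### Natural modules -/

section nat

variable {F : Type} [Field F] [Finite F] {T H V D A R : Subgroup G} {k : ℕ}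

theorem nat_card_le [Finite G] (N : NatKM F T H V D k) (hAT : A ≤ T) (ho : OffM V A)
    (hn : ∀ a ∈ A, ∀ v ∈ V, a * v * a⁻¹ ∈ V) (hRV : R ≤ V)
    (hR : ∀ a ∈ A, ∀ v ∈ V, a * v * a⁻¹ * v⁻¹ ∈ R)
    (hf : ∀ a ∈ A, (∀ v ∈ V, N.e (a * v * a⁻¹) = N.e v) → a ∈ centralizer (V : Set G)) :
    Nat.card A * Nat.card ↥(R ⊓ D) ≤ Nat.card ↥(A ⊓ centralizer (V : Set G)) * Nat.card R := by
  classical
  obtain ⟨I, h1, h2⟩ := N.offM A hAT ho
  have e1 : N.e 1 = 0 := by
    have := N.mul 1 V.one_mem 1 V.one_mem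
    rw [mul_one] at this
    exact left_eq_add.1 this
  have einv : ∀ v ∈ V, N.e v⁻¹ = - N.e v := by
    intro v hv
    have := N.mul v hv v⁻¹ (V.inv_mem hv)
    rw [mul_inv_cancel, e1] at this
    exact (neg_eq_of_add_eq_zero_right this.symm).symm
  let X : Type := {b : Fin k → F // ∀ i, i ∉ I → b i = 0}
  have hX : Finite X := inferInstanceAs (Finite {b : Fin k → F // ∀ i, i ∉ I → b i = 0})
  choose bb hb0 hb using h1
  choose aa haA haa using h2
  obtain ⟨v₁, hv₁, ev₁⟩ := N.surj fun _ => ![0, 1]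
  have hψ : ∀ x : X, aa x.1 x.2 * v₁ * (aa x.1 x.2)⁻¹ * v₁⁻¹ ∈ R := fun x => hR _ (haA _ _) _ hv₁
  have eψ : ∀ x : X, ∀ i, N.e (aa x.1 x.2 * v₁ * (aa x.1 x.2)⁻¹ * v₁⁻¹) i 0 = x.1 i := by
    intro x i
    rw [N.mul _ (hn _ (haA _ _) _ hv₁) _ (V.inv_mem hv₁), einv _ hv₁, Pi.add_apply, Pi.neg_apply,
      (haa x.1 x.2).1 _ hv₁ i, ev₁, Pi.add_apply, Pi.neg_apply, NatPair.ap_zero', up_00, up_01]
    simp
  refine card_le_card (X := X) (fun a => ⟨bb a a.2, hb0 a a.2⟩) ?_ (fun x => ⟨_, hψ x⟩) ?_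
  · intro a b hab
    have hab' : bb a a.2 = bb b b.2 := congrArg Subtype.val hab
    refine hf _ (A.mul_mem (A.inv_mem a.2) b.2) fun v hv => ?_
    have hw : (a : G)⁻¹ * ((b : G) * v * (b : G)⁻¹) * (a : G)⁻¹⁻¹ ∈ V := hn _ (A.inv_mem a.2) _ (hn _ b.2 _ hv)
    have e2 : (a : G)⁻¹ * b * v * ((a : G)⁻¹ * b)⁻¹ = (a : G)⁻¹ * ((b : G) * v * (b : G)⁻¹) * (a : G)⁻¹⁻¹ := by group
    rw [e2]
    funext i
    have h3 := (hb a a.2).1 _ hw i
    have e3 : (a : G) * ((a : G)⁻¹ * ((b : G) * v * (b : G)⁻¹) * (a : G)⁻¹⁻¹) * (a : G)⁻¹ = (b : G) * v * (b : G)⁻¹ := by group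
    rw [e3, (hb b b.2).1 _ hv i, hab'] at h3
    have h4 := congrArg (ap (up (bb b b.2 i))⁻¹) h3
    rw [NatPair.ap_inv_ap, NatPair.ap_inv_ap] at h4
    exact h4.symm
  · intro x y hxy
    have hx := hRV (hψ x)
    have hy := hRV (hψ y)
    have h3 := (N.ker _ (V.mul_mem (V.inv_mem hx) hy)).2 hxy
    rw [N.mul _ (V.inv_mem hx) _ hy, einv _ hx, neg_add_eq_zero] at h3
    apply Subtype.ext
    funext i
    rw [← eψ x i, ← eψ y i, h3]

end nat

/-! ### Even-subset modules -/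

section sym

variable {T H V D A R : Subgroup G} {k m : ℕ}

/-- half of the support of an involution with the fixed point `0` -/
theorem exists_half {n : ℕ} (τ : Equiv.Perm (Fin (n + 1))) (h0 : τ 0 = 0) (h2 : ∀ x, τ (τ x) = x) :
    ∃ y : Fin (n + 1) → ZMod 2, ∑ x, y x = 0 ∧ ∀ x, y (τ x) + y x = if τ x = x then 0 else 1 := by
  classical
  let y₀ : Fin (n + 1) → ZMod 2 := fun x => if x < τ x then 1 else 0
  refine ⟨fun x => y₀ x + if x = 0 then ∑ z, y₀ z else 0, ?_, fun x => ?_⟩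
  · rw [Finset.sum_add_distrib, Finset.sum_ite_eq' Finset.univ (0 : Fin (n + 1)) (fun _ => ∑ z, y₀ z),
      if_pos (Finset.mem_univ _), CharTwo.add_self_eq_zero]
  · by_cases hx : τ x = x
    · rw [if_pos hx, hx, CharTwo.add_self_eq_zero]
    · rw [if_neg hx]
      have hx0 : x ≠ 0 := fun h => hx (by rw [h, h0])
      have hx0' : τ x ≠ 0 := fun h => hx0 (by rw [← h2 x, h, h0])
      change (y₀ (τ x) + if τ x = 0 then ∑ z, y₀ z else 0) + (y₀ x + if x = 0 then ∑ z, y₀ z else 0) = 1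
      rw [if_neg hx0, if_neg hx0', add_zero, add_zero]
      simp only [y₀, h2]
      rcases lt_or_gt_of_ne hx with h | h
      · rw [if_pos h, if_neg (not_lt.2 h.le), add_zero]
      · rw [if_neg (not_lt.2 h.le), if_pos h, zero_add]

/-- two points of one block are separated by an element of `V` -/
theorem eq_of_not_sep (hm : 1 ≤ m) (N : SymK T H V D k m) (i : Fin k) {a b : Fin (2 ^ m + 1)}
    (h : ∀ v ∈ V, N.e v i a = N.e v i b) : a = b := by
  classical
  by_contra hab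
  obtain ⟨c, hca, hcb⟩ : ∃ c : Fin (2 ^ m + 1), c ≠ a ∧ c ≠ b := by
    by_contra hcon
    push Not at hcon
    have h1 : (Finset.univ : Finset (Fin (2 ^ m + 1))) ⊆ {a, b} := by
      intro x _
      rw [Finset.mem_insert, Finset.mem_singleton]
      by_cases hx : x = a
      · exact Or.inl hx
      · exact Or.inr (hcon x hx)
    have h2 := (Finset.card_le_card h1).trans Finset.card_le_two
    rw [Finset.card_univ, Fintype.card_fin] at h2
    have h3 : 2 ^ 1 ≤ 2 ^ m := Nat.pow_le_pow_right (by norm_num) hm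
    omega
  obtain ⟨v, hv, ev⟩ := N.surj (fun j x => if j = i then (Pi.single a 1 + Pi.single c 1 : Fin (2 ^ m + 1) → ZMod 2) x else 0) (by
    intro j
    by_cases hj : j = i
    · simp only [hj, if_true, Pi.add_apply]
      rw [Finset.sum_add_distrib, Finset.sum_pi_single', Finset.sum_pi_single']
      simp [CharTwo.add_self_eq_zero]
    · simp [hj])
  have h1 := h v hv
  rw [ev] at h1
  simp only [if_true, Pi.add_apply, Pi.single_apply] at h1
  rw [if_neg hca.symm, if_neg (Ne.symm hab), if_neg hcb.symm] at h1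
  simp at h1

theorem sym_card_le [Finite G] (hm : 1 ≤ m) (N : SymKM T H V D k m) (hAT : A ≤ T) (ho : OffM V A)
    (hn : ∀ a ∈ A, ∀ v ∈ V, a * v * a⁻¹ ∈ V) (hRV : R ≤ V)
    (hR : ∀ a ∈ A, ∀ v ∈ V, a * v * a⁻¹ * v⁻¹ ∈ R)
    (hf : ∀ a ∈ A, (∀ v ∈ V, N.e (a * v * a⁻¹) = N.e v) → a ∈ centralizer (V : Set G)) :
    Nat.card A * Nat.card ↥(R ⊓ D) ≤ Nat.card ↥(A ⊓ centralizer (V : Set G)) * Nat.card R := by
  classical
  obtain ⟨-, h1⟩ := N.offM A hAT ho
  have e1 : N.e 1 = 0 := by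
    have := N.mul 1 V.one_mem 1 V.one_mem
    rw [mul_one] at this
    exact left_eq_add.1 this
  have einv : ∀ v ∈ V, N.e v⁻¹ = N.e v := by
    intro v hv
    have := N.mul v hv v⁻¹ (V.inv_mem hv)
    rw [mul_inv_cancel, e1] at this
    have h2 := neg_eq_of_add_eq_zero_right this.symm
    rw [← h2]
    funext i x
    rw [Pi.neg_apply, Pi.neg_apply, CharTwo.neg_eq]
  let X : Type := {τ : Fin k → Equiv.Perm (Fin (2 ^ m + 1)) // ∃ a ∈ A, ActsSym N.e V a 1 τ ∧
    ∀ i x, τ i x ≠ x → τ i (τ i x) = x ∧ ∃ b ∈ A, ActsSym N.e V b 1 (Function.update 1 i (Equiv.swap x (τ i x)))}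
  have hX : Finite X := inferInstanceAs (Finite {τ : Fin k → Equiv.Perm (Fin (2 ^ m + 1)) //
    ∃ a ∈ A, ActsSym N.e V a 1 τ ∧
    ∀ i x, τ i x ≠ x → τ i (τ i x) = x ∧ ∃ b ∈ A, ActsSym N.e V b 1 (Function.update 1 i (Equiv.swap x (τ i x)))})
  choose tt ht0 ht1 using h1
  have h2 : ∀ τ : X, ∃ r ∈ R, ∀ i x, N.e r i x = if τ.1 i x = x then 0 else 1 := by
    rintro ⟨τ, a, haA, ha, hτ⟩
    have hinv : ∀ i x, τ i (τ i x) = x := by
      intro i x
      by_cases h : τ i x = x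
      · rw [h, h]
      · exact (hτ i x h).1
    have h0 := N.fix0 a (hAT haA) 1 τ ha
    choose y hy0 hy using fun i => exists_half (τ i) (h0 i) (hinv i)
    obtain ⟨v, hv, ev⟩ := N.surj y hy0
    refine ⟨_, hR a haA v hv, fun i x => ?_⟩
    rw [N.mul _ (hn _ haA _ hv) _ (V.inv_mem hv), einv _ hv, Pi.add_apply, Pi.add_apply]
    have h3 := ha v hv i (τ i x)
    rw [hinv, Equiv.Perm.one_apply] at h3
    rw [h3, ev, hy i x]
  choose r hrR hr using h2
  refine card_le_card (X := X) (fun a => ⟨tt a a.2, a, a.2, ht0 a a.2, ht1 a a.2⟩) ?_ (fun x => ⟨r x, hrR x⟩) ?_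
  · intro a b hab
    have hab' : tt a a.2 = tt b b.2 := congrArg Subtype.val hab
    refine hf _ (A.mul_mem (A.inv_mem a.2) b.2) fun v hv => ?_
    have hw : (a : G)⁻¹ * ((b : G) * v * (b : G)⁻¹) * (a : G)⁻¹⁻¹ ∈ V := hn _ (A.inv_mem a.2) _ (hn _ b.2 _ hv)
    have e2 : (a : G)⁻¹ * b * v * ((a : G)⁻¹ * b)⁻¹ = (a : G)⁻¹ * ((b : G) * v * (b : G)⁻¹) * (a : G)⁻¹⁻¹ := by group
    rw [e2]
    funext i x
    have h3 := ht0 a a.2 _ hw i x
    have e3 : (a : G) * ((a : G)⁻¹ * ((b : G) * v * (b : G)⁻¹) * (a : G)⁻¹⁻¹) * (a : G)⁻¹ = (b : G) * v * (b : G)⁻¹ := by group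
    rw [e3, hab', ht0 b b.2 v hv i x] at h3
    exact h3.symm
  · intro τ τ' hxy
    have hx := hRV (hrR τ)
    have hy := hRV (hrR τ')
    have h3 := (N.ker _ (V.mul_mem (V.inv_mem hx) hy)).2 hxy
    rw [N.mul _ (V.inv_mem hx) _ hy, einv _ hx] at h3
    have h4 : N.e (r τ) = N.e (r τ') := by
      funext i x
      have := congrFun (congrFun h3 i) x
      rw [Pi.add_apply, Pi.add_apply] at this
      exact CharTwo.add_eq_zero.1 this
    -- the supports agree
    have h5 : ∀ i x, τ.1 i x = x ↔ τ'.1 i x = x := by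
      intro i x
      have h6 := congrFun (congrFun h4 i) x
      rw [hr τ i x, hr τ' i x] at h6
      by_cases e2 : τ.1 i x = x
      · rw [if_pos e2] at h6
        refine ⟨fun _ => ?_, fun _ => e2⟩
        by_contra e3
        rw [if_neg e3] at h6
        exact zero_ne_one h6
      · rw [if_neg e2] at h6
        refine ⟨fun h => absurd h e2, fun h => ?_⟩
        rw [if_pos h] at h6
        exact absurd h6 one_ne_zero
    obtain ⟨τ, a, haA, ha, hτ⟩ := τ
    obtain ⟨τ', a', haA', ha', hτ'⟩ := τ'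
    apply Subtype.ext
    funext i
    ext1 x
    change τ i x = τ' i x
    by_cases hx1 : τ i x = x
    · rw [hx1]
      exact ((h5 i x).1 hx1).symm
    have hx2 : τ' i x ≠ x := fun h => hx1 ((h5 i x).2 h)
    by_contra hne
    obtain ⟨-, b, hbA, hb⟩ := hτ i x hx1
    obtain ⟨-, b', hbA', hb'⟩ := hτ' i x hx2
    set s := Equiv.swap x (τ i x) with hs
    set s' := Equiv.swap x (τ' i x) with hs'
    have act : ∀ {b : G} {s : Equiv.Perm (Fin (2 ^ m + 1))}, b ∈ A → ActsSym N.e V b 1 (Function.update 1 i s) →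
        ∀ v ∈ V, ∀ z, N.e (b * v * b⁻¹) i (s z) = N.e v i z := by
      intro b s _ hb v hv z
      have := hb v hv i z
      rwa [Function.update_self] at this
    have hcomm : ∀ z, s (s' z) = s' (s z) := by
      intro z
      refine eq_of_not_sep hm N.toSymK i fun w hw => ?_
      -- `w = (b b') v (b b')⁻¹`
      have hv : b'⁻¹ * (b⁻¹ * w * b⁻¹⁻¹) * b'⁻¹⁻¹ ∈ V := hn _ (A.inv_mem hbA') _ (hn _ (A.inv_mem hbA) _ hw)
      set v := b'⁻¹ * (b⁻¹ * w * b⁻¹⁻¹) * b'⁻¹⁻¹ with hv'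
      have e2 : b * (b' * v * b'⁻¹) * b⁻¹ = w := by rw [hv']; group
      have e3 : b' * (b * v * b⁻¹) * b'⁻¹ = w := by
        have h6 := mem_centralizer_iff.1 (ho.comm b hbA b' hbA') _ (hn _ hbA' _ (hn _ hbA _ hv))
        calc b' * (b * v * b⁻¹) * b'⁻¹ = (b * b' * b⁻¹ * b'⁻¹) * (b' * (b * v * b⁻¹) * b'⁻¹) * (b * b' * b⁻¹ * b'⁻¹)⁻¹ := by
              rw [← h6]; group
          _ = b * (b' * v * b'⁻¹) * b⁻¹ := by group
          _ = w := e2
      have h7 : N.e w i (s (s' z)) = N.e v i z := by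
        rw [← e2, act hbA hb _ (hn _ hbA' _ hv), act hbA' hb' _ hv]
      have h8 : N.e w i (s' (s z)) = N.e v i z := by
        rw [← e3, act hbA' hb' _ (hn _ hbA _ hv), act hbA hb _ hv]
      rw [h7, h8]
    have h6 := hcomm x
    have e4 : s x = τ i x := Equiv.swap_apply_left _ _
    have e5 : s' x = τ' i x := Equiv.swap_apply_left _ _
    rw [e4, e5, hs, hs', Equiv.swap_apply_of_ne_of_ne hx2 (Ne.symm hne),
      Equiv.swap_apply_of_ne_of_ne hx1 hne] at h6
    exact hne h6.symm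

end sym

/-! ### (3a) -/

section off

variable {V A R : Subgroup G}

/-- `A` acts on `V` as a group of transvections with centre `R` and one axis -/
structure Trv (V A R : Subgroup G) : Prop where
  Vcomm : ∀ v ∈ V, ∀ w ∈ V, v * w = w * v
  Rsq : ∀ r ∈ R, r * r = 1
  RV : R ≤ V
  RA : ∀ a ∈ A, ∀ r ∈ R, a * r = r * a
  comm : ∀ a ∈ A, ∀ v ∈ V, a * v * a⁻¹ * v⁻¹ ∈ R
  axis : ∀ a ∈ A, a ∉ centralizer (V : Set G) → ∀ v ∈ V, a * v = v * a → ∀ b ∈ A, b * v = v * b
  ne : ¬ A ≤ centralizer (V : Set G)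
  card : Nat.card R * Nat.card ↥(A ⊓ centralizer (V : Set G)) ≤ Nat.card A

namespace Trv

variable (h : Trv V A R)
include h

theorem conj_mem {a v : G} (ha : a ∈ A) (hv : v ∈ V) : a * v * a⁻¹ ∈ V := by
  have h1 := V.mul_mem (h.RV (h.comm a ha v hv)) hv
  rwa [inv_mul_cancel_right] at h1

theorem elemM : ElemM V A := by
  have key : ∀ a ∈ A, ∀ v ∈ V, ∃ r ∈ R, a * v * a⁻¹ = r * v := fun a ha v hv =>
    ⟨_, h.comm a ha v hv, by group⟩
  have conjR : ∀ a ∈ A, ∀ r ∈ R, a * r * a⁻¹ = r := fun a ha r hr => by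
    rw [h.RA a ha r hr, mul_inv_cancel_right]
  refine ⟨fun a ha => ?_, fun a ha b hb => ?_⟩
  · rw [mem_centralizer_iff]
    intro v hv
    obtain ⟨r, hr, e⟩ := key a ha v hv
    have e2 : a ^ 2 * v * (a ^ 2)⁻¹ = v := by
      calc a ^ 2 * v * (a ^ 2)⁻¹ = a * (a * v * a⁻¹) * a⁻¹ := by rw [pow_two]; group
        _ = a * (r * v) * a⁻¹ := by rw [e]
        _ = (a * r * a⁻¹) * (a * v * a⁻¹) := by group
        _ = r * (r * v) := by rw [conjR a ha r hr, e]
        _ = v := by rw [← mul_assoc, h.Rsq r hr, one_mul]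
    rw [mul_inv_eq_iff_eq_mul] at e2
    exact e2.symm
  · rw [mem_centralizer_iff]
    intro v hv
    obtain ⟨r, hr, e⟩ := key a ha v hv
    obtain ⟨s, hs, e'⟩ := key b hb v hv
    have e1 : a * (b * v * b⁻¹) * a⁻¹ = s * r * v := by
      calc a * (b * v * b⁻¹) * a⁻¹ = (a * s * a⁻¹) * (a * v * a⁻¹) := by rw [e']; group
        _ = s * r * v := by rw [conjR a ha s hs, e, mul_assoc]
    have e2 : b * (a * v * a⁻¹) * b⁻¹ = s * r * v := by
      calc b * (a * v * a⁻¹) * b⁻¹ = (b * r * b⁻¹) * (b * v * b⁻¹) := by rw [e]; group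
        _ = r * s * v := by rw [conjR b hb r hr, e', mul_assoc]
        _ = s * r * v := by rw [h.Vcomm r (h.RV hr) s (h.RV hs)]
    -- `c = a b a⁻¹ b⁻¹`, applied to `b a v`
    obtain ⟨w, hw⟩ : ∃ w, w = b * (a * v * a⁻¹) * b⁻¹ := ⟨_, rfl⟩
    have e3 : (a * b * a⁻¹ * b⁻¹) * w * (a * b * a⁻¹ * b⁻¹)⁻¹ = w := by
      calc (a * b * a⁻¹ * b⁻¹) * w * (a * b * a⁻¹ * b⁻¹)⁻¹ = a * (b * v * b⁻¹) * a⁻¹ := by rw [hw]; group
        _ = w := by rw [e1, hw, e2]
    have hRc : ∀ r ∈ R, (a * b * a⁻¹ * b⁻¹) * r * (a * b * a⁻¹ * b⁻¹)⁻¹ = r := by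
      intro r hr
      have i1 := conjR a ha r hr
      have i2 := conjR b hb r hr
      have i3 := conjR a⁻¹ (A.inv_mem ha) r hr
      have i4 := conjR b⁻¹ (A.inv_mem hb) r hr
      calc (a * b * a⁻¹ * b⁻¹) * r * (a * b * a⁻¹ * b⁻¹)⁻¹
          = a * (b * (a⁻¹ * (b⁻¹ * r * b⁻¹⁻¹) * a⁻¹⁻¹) * b⁻¹) * a⁻¹ := by group
        _ = r := by rw [i4, i3, i2, i1]
    have e4 : v = (s * r)⁻¹ * w := by rw [hw, e2]; group
    have e5 : (a * b * a⁻¹ * b⁻¹) * v * (a * b * a⁻¹ * b⁻¹)⁻¹ = v := by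
      have hsr : (s * r)⁻¹ ∈ R := R.inv_mem (R.mul_mem hs hr)
      calc (a * b * a⁻¹ * b⁻¹) * v * (a * b * a⁻¹ * b⁻¹)⁻¹
          = ((a * b * a⁻¹ * b⁻¹) * (s * r)⁻¹ * (a * b * a⁻¹ * b⁻¹)⁻¹) *
            ((a * b * a⁻¹ * b⁻¹) * w * (a * b * a⁻¹ * b⁻¹)⁻¹) := by rw [e4]; group
        _ = v := by rw [hRc _ hsr, e3, ← e4]
    rw [mul_inv_eq_iff_eq_mul] at e5
    exact e5.symm

theorem offM [Finite G] : OffM V A where
  toElemM := h.elemM
  ne := h.ne
  le := by
    obtain ⟨a, ha, hac⟩ := Set.not_subset.1 h.ne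
    -- `|V : C_V(A)| ≤ |R|`
    have h1 : Nat.card V ≤ Nat.card ↥(V ⊓ centralizer (A : Set G)) * Nat.card R := by
      refine card_le_of_fun (X := R) (fun v => ⟨a * v * a⁻¹ * (v : G)⁻¹, h.comm a ha v v.2⟩) ?_
      intro v w hvw
      have e1 : a * v * a⁻¹ * (v : G)⁻¹ = a * w * a⁻¹ * (w : G)⁻¹ := congrArg Subtype.val hvw
      rw [mem_centralizer_iff]
      have hvwV : (v : G)⁻¹ * w ∈ V := V.mul_mem (V.inv_mem v.2) w.2
      have e2 : a * ((v : G)⁻¹ * w) = (v : G)⁻¹ * w * a := by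
        have e3 : a * w * a⁻¹ = a * v * a⁻¹ * (v : G)⁻¹ * w := by rw [e1]; group
        have e4 : a * v * a⁻¹ ∈ V := h.conj_mem ha v.2
        have e5 : a * v * a⁻¹ * ((v : G)⁻¹ * w) = (v : G)⁻¹ * w * (a * v * a⁻¹) := h.Vcomm _ e4 _ hvwV
        calc a * ((v : G)⁻¹ * w) = (a * v * a⁻¹)⁻¹ * (a * w * a⁻¹) * a := by group
          _ = (a * v * a⁻¹)⁻¹ * (a * v * a⁻¹ * (v : G)⁻¹ * w) * a := by rw [← e3]
          _ = (v : G)⁻¹ * w * a := by group
      exact fun b hb => h.axis a ha hac _ hvwV e2 b hb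
    calc Nat.card V * Nat.card ↥(A ⊓ centralizer (V : Set G))
        ≤ Nat.card ↥(V ⊓ centralizer (A : Set G)) * Nat.card R * Nat.card ↥(A ⊓ centralizer (V : Set G)) :=
          Nat.mul_le_mul_right _ h1
      _ = Nat.card ↥(V ⊓ centralizer (A : Set G)) * (Nat.card R * Nat.card ↥(A ⊓ centralizer (V : Set G))) := by ring
      _ ≤ Nat.card ↥(V ⊓ centralizer (A : Set G)) * Nat.card A := Nat.mul_le_mul_left _ h.card
      _ = _ := mul_comm _ _

omit h in
theorem false_of [Finite G] {D : Subgroup G} (h : Trv V A R)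
    (h1 : Nat.card A * Nat.card ↥(R ⊓ D) ≤ Nat.card ↥(A ⊓ centralizer (V : Set G)) * Nat.card R)
    (hRD : R ⊓ D ≠ ⊥) : False := by
  have h2 := h.card
  have h3 : 1 < Nat.card ↥(R ⊓ D) := (Subgroup.one_lt_card_iff_ne_bot _).2 hRD
  have h4 : 0 < Nat.card A := Nat.card_pos
  have h5 : Nat.card A * Nat.card ↥(R ⊓ D) ≤ Nat.card A := by
    rw [mul_comm (Nat.card ↥(A ⊓ centralizer (V : Set G)))] at h1
    exact h1.trans h2
  have h6 : Nat.card A * 1 < Nat.card A * Nat.card ↥(R ⊓ D) := Nat.mul_lt_mul_of_pos_left h3 h4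
  omega

/-- **(3a), natural type.** -/
theorem false_nat [Finite G] {F : Type} [Field F] [Finite F] {T H D : Subgroup G} {k : ℕ} (N : NatKM F T H V D k)
    (hAT : A ≤ T)
    (hf : ∀ a ∈ A, (∀ v ∈ V, N.e (a * v * a⁻¹) = N.e v) → a ∈ centralizer (V : Set G))
    (hRD : R ⊓ D ≠ ⊥) : False :=
  h.false_of (nat_card_le N hAT h.offM (fun _ ha _ hv => h.conj_mem ha hv) h.RV h.comm hf) hRD

/-- **(3a), symmetric type.** -/
theorem false_sym [Finite G] {T H D : Subgroup G} {k m : ℕ} (hm : 1 ≤ m) (N : SymKM T H V D k m)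
    (hAT : A ≤ T)
    (hf : ∀ a ∈ A, (∀ v ∈ V, N.e (a * v * a⁻¹) = N.e v) → a ∈ centralizer (V : Set G))
    (hRD : R ⊓ D ≠ ⊥) : False :=
  h.false_of (sym_card_le hm N hAT h.offM (fun _ ha _ hv => h.conj_mem ha hv) h.RV h.comm hf) hRD

end Trv

end off

end Cfsg.Agent.Omega.NOThreeL.RLow

end

section


/-!
# THEOREM R-LOW (#21762), (3a): the group form

`Trv.false_line` : `R` a 2-parabolic over `S` with line `zl S P` of natural or symmetric type, radical `cv S P`; no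
subgroup `A ≤ S` acts on `zl S P` as a group of transvections with centre `R`, `|R| ≤ |A : C_A|`, if `R ∩ cv S P ≠ 1`.
-/

set_option autoImplicit false

namespace Cfsg.Agent.Omega.NOThreeL.RLow

open Subgroup Cfsg Cfsg.Agent.ZN Cfsg.Agent.Omega.MinPar Cfsg.Agent.Omega.FrameFF Cfsg.Agent.Omega.FFThm

universe u

variable {G : Type u} [Group G] [Finite G] {S : Sylow 2 G} {P A R : Subgroup G}

/-- **(3a), natural type, group form.** -/
theorem Trv.false_natS (h : Trv (zl (S : Subgroup G) P) A R) (hG : IsCharacteristicTwoType G)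
    (hP : IsParS (S : Subgroup G) P) {F : Type} [Field F] [Finite F] {k : ℕ}
    (N : NatKM F (S : Subgroup G) P (zl (S : Subgroup G) P) (cv (S : Subgroup G) P) k)
    (hAS : A ≤ (S : Subgroup G)) (hRD : R ⊓ cv (S : Subgroup G) P ≠ ⊥) : False := by
  refine h.false_nat N hAS (fun a ha hc => ?_) hRD
  rw [mem_centralizer_iff]
  intro v hv
  refine (All.HOne.comm_of_sec hG S hP (hAS ha) (fun w hw => ?_) v hv).symm
  have h1 := h.conj_mem ha hw
  rw [← N.ker _ (mul_mem h1 (inv_mem hw))]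
  have e1 : N.e 1 = 0 := (N.ker 1 (one_mem _)).2 (one_mem _)
  have e2 : N.e w⁻¹ = - N.e w := by
    have := N.mul w hw w⁻¹ (inv_mem hw)
    rw [mul_inv_cancel, e1] at this
    exact (neg_eq_of_add_eq_zero_right this.symm).symm
  rw [N.mul _ h1 _ (inv_mem hw), hc w hw, e2, add_neg_cancel]

/-- **(3a), symmetric type, group form.** -/
theorem Trv.false_symS (h : Trv (zl (S : Subgroup G) P) A R) (hG : IsCharacteristicTwoType G)
    (hP : IsParS (S : Subgroup G) P) {k m : ℕ} (hm : 1 ≤ m)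
    (N : SymKM (S : Subgroup G) P (zl (S : Subgroup G) P) (cv (S : Subgroup G) P) k m)
    (hAS : A ≤ (S : Subgroup G)) (hRD : R ⊓ cv (S : Subgroup G) P ≠ ⊥) : False := by
  refine h.false_sym hm N hAS (fun a ha hc => ?_) hRD
  rw [mem_centralizer_iff]
  intro v hv
  refine (All.HOne.comm_of_sec hG S hP (hAS ha) (fun w hw => ?_) v hv).symm
  have h1 := h.conj_mem ha hw
  rw [← N.ker _ (mul_mem h1 (inv_mem hw))]
  have e1 : N.e 1 = 0 := (N.ker 1 (one_mem _)).2 (one_mem _)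
  have e2 : N.e w⁻¹ = - N.e w := by
    have := N.mul w hw w⁻¹ (inv_mem hw)
    rw [mul_inv_cancel, e1] at this
    exact (neg_eq_of_add_eq_zero_right this.symm).symm
  rw [N.mul _ h1 _ (inv_mem hw), hc w hw, e2, add_neg_cancel]

/-- **(3a)** for a line of natural or symmetric type. -/
theorem Trv.false_line (h : Trv (zl (S : Subgroup G) P) A R) (hG : IsCharacteristicTwoType G)
    (hP : IsParS (S : Subgroup G) P) (hc : ConclM (S : Subgroup G) P)
    (hAS : A ≤ (S : Subgroup G)) (hRD : R ⊓ cv (S : Subgroup G) P ≠ ⊥) : False := by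
  rcases hc with ⟨F, _, _, _, k, -, ⟨N⟩⟩ | ⟨k, m, -, hm, ⟨N⟩⟩
  · exact h.false_natS hG hP N hAS hRD
  · exact h.false_symS hG hP (by omega) N hAS hRD

end Cfsg.Agent.Omega.NOThreeL.RLow

end
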