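import Cfsg.Agent.Mrg.Omega.NOThreeL.RLow.Glue
import Cfsg.Agent.Mrg.Omega.NOThreeL.RLow.FrontP
import Cfsg.Agent.Mrg.Omega.NOThreeL.RZ.Frame
import Cfsg.Agent.Mrg.Omega.NOThreeL.NF.Nat
import Cfsg.Agent.Mrg.Omega.NOThreeL.Low.Dich


/-!
# Box R of NO-3L: `R = RR S ≤ Q = O₂(C_G(Z))` (helper597)

`RR S` is the largest member of `NN(S)` which is `⟨P*(S)⟩`-invariant and generated by the conjugates of its part of `Z`.
No assumption about `V*` (FF or not).

* `root_LL` : `L = ⟨P ∈ P*(S) : C_S(R) ≤ O₂(P)⟩` is a root: `⟨Z^L⟩` is not FF;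
* `zl_LL_le`, `rr_le` : `⟨Z^L⟩ ≤ Q`, `RR S ≤ Q` in box R, not (A), from the parts of THEOREM R-LOW.
-/

set_option autoImplicit false

namespace Cfsg.Agent.Omega.NOThreeL.RLow.RRLow

open Subgroup Cfsg
open Cfsg.Agent.ZN (o2 zc zl jj)
open Cfsg.Agent.ZN.ChoiceBase hiding mem_zc
open Cfsg.Agent.Omega.MinPar Cfsg.Agent.Omega.Frame Cfsg.Agent.Omega.FrameNOFF
open Cfsg.Agent.Omega.Node.NO3L Cfsg.Agent.Omega.NOThreeL.Basic
open Cfsg.Agent.Omega.NO3b.EZero (NotFF)
open Cfsg.Agent.Omega.NO3b.Bang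
open Cfsg.Agent.Omega.NO1.BestOff (Best exists_best)
open Cfsg.Agent.Omega.NOThreeL.Star (YS le_YS S_le_YS zl_mono)
open Cfsg.Agent.Omega.NOThreeL.Merge (MZ)
open Cfsg.Agent.Omega.NO3S (FFMod)
open Cfsg.Agent.Omega.NO3b (Wc.Root Wc.VL Wc.ML)
open Cfsg.Agent.Omega.NOThreeL.RZ (Inv RR LL V_le_of le_norm_V V_mono inv_RR)
open Cfsg.Agent.MinSimple.VModule (zc_le_zl le_normalizer_zl zl_le zc_le mem_zc le_centralizer_zc zc_sq
  le_normalizer_o2 o2_isPGroup o2_le le_o2 normalizer_le_normalizer_zc)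
open scoped Pointwise

universe u

variable {G : Type u} [Group G] [Finite G] {S : Sylow 2 G} {R : Subgroup G}

section inv

variable (hR : Inv (S : Subgroup G) R)
include hR

omit [Finite G] in
theorem par {P : Subgroup G} (hP : IsParS (S : Subgroup G) P) : P ≤ normalizer (R : Set G) := (le_YS hP).trans hR.ys

/-- Otherwise `P = C_P(R) S`. -/
theorem act_of {P : Subgroup G} (hP : IsParS (S : Subgroup G) P)
    (h1 : ¬ (S : Subgroup G) ⊓ centralizer (R : Set G) ≤ o2 P) :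
    P ⊓ centralizer (R : Set G) ⊔ (S : Subgroup G) = P := by
  have hn : P ≤ normalizer ((P ⊓ centralizer (R : Set G) : Subgroup G) : Set G) := by
    intro p hp
    rw [mem_normalizer_iff_cj, cj_inf, cj_centralizer, cj_eq_of_mem_normalizer (le_normalizer hp),
      cj_eq_of_mem_normalizer (par hR hP hp)]
  rcases hP.toIsPar.sup_eq_or_inf_le S inf_le_left hn with h2 | h2
  · exact h2
  · exfalso
    refine h1 (le_trans ?_ h2)
    exact le_inf inf_le_left (le_inf (inf_le_left.trans hP.le) inf_le_right)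

/-- `C_S(R)` is normal in `L`. -/
theorem LL_cs : LL (S : Subgroup G) R ≤
    normalizer (((S : Subgroup G) ⊓ centralizer (R : Set G) : Subgroup G) : Set G) := by
  refine sSup_le ?_
  rintro P ⟨hP, h1⟩
  have e : (S : Subgroup G) ⊓ centralizer (R : Set G) = o2 P ⊓ centralizer (R : Set G) :=
    le_antisymm (le_inf h1 inf_le_right) (inf_le_inf_right _ (hP.isLoc.o2_le S))
  rw [e]
  intro p hp
  rw [mem_normalizer_iff_cj, cj_inf, cj_centralizer, cj_eq_of_mem_normalizer (le_normalizer_o2 P hp),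
    cj_eq_of_mem_normalizer (par hR hP hp)]

theorem LL_ex (hG : Ctx G) (hF : Full (S : Subgroup G)) (hne : R ≠ ⊥) :
    ∃ P, IsParS (S : Subgroup G) P ∧ (S : Subgroup G) ⊓ centralizer (R : Set G) ≤ o2 P := by
  by_contra hcon
  have h0 : R ⊓ zc (S : Subgroup G) = ⊥ := by
    refine eq_bot_of_norm hG S hF (S.isPGroup'.to_le (inf_le_left.trans hR.nn.le)) (fun P hP => ?_) ?_
    · rw [← act_of hR hP fun h1 => hcon ⟨P, hP, h1⟩]
      refine sup_le ?_ ?_
      · exact inf_le_right.trans ((centralizer_le inf_le_left).trans (centralizer_le_normalizer _))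
      · exact ((le_CZ S).trans (centralizer_le inf_le_right)).trans (centralizer_le_normalizer _)
    · exact (centralizer_le inf_le_right).trans (centralizer_le_normalizer _)
  apply hne
  rw [eq_bot_iff]
  refine hR.gen.trans ?_
  rw [h0]
  refine NoFF.Basic.V_le fun p _ => ?_
  rw [show MulAut.conj p • (⊥ : Subgroup G) = ⊥ from Subgroup.map_bot _]

theorem le_V_LL (hG : Ctx G) (hF : Full (S : Subgroup G)) (hne : R ≠ ⊥) :
    R ≤ zl (S : Subgroup G) (LL (S : Subgroup G) R) := by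
  obtain ⟨P₀, hP₀, h₀⟩ := LL_ex hR hG hF hne
  have hS : (S : Subgroup G) ≤ LL (S : Subgroup G) R := hP₀.le.trans (le_sSup ⟨hP₀, h₀⟩)
  have hLR : LL (S : Subgroup G) R ≤ normalizer (R : Set G) := sSup_le fun _ hP => par hR hP.1
  have h1 : R ≤ NoFF.Basic.V (R ⊓ zc (S : Subgroup G)) (LL (S : Subgroup G) R) := by
    refine hR.gen.trans (V_le_of (RZ.Z_le _ _) ?_)
    refine sSup_le fun P hP => ?_
    by_cases h1 : (S : Subgroup G) ⊓ centralizer (R : Set G) ≤ o2 P
    · exact (show P ≤ LL (S : Subgroup G) R from le_sSup ⟨hP, h1⟩).trans (le_norm_V _ _)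
    · rw [← act_of hR hP h1]
      refine sup_le ?_ (hS.trans (le_norm_V _ _))
      refine inf_le_right.trans ?_
      exact (centralizer_le (V_le_of inf_le_left hLR)).trans (centralizer_le_normalizer _)
  exact h1.trans (V_mono inf_le_right le_rfl)

/-- **`L = LL S R` is a root.** -/
theorem root_LL (hG : Ctx G) (hF : Full (S : Subgroup G)) (hne : R ≠ ⊥) :
    Wc.Root S (LL (S : Subgroup G) R) := by
  obtain ⟨P₀, hP₀, h₀⟩ := LL_ex hR hG hF hne
  have hS : (S : Subgroup G) ≤ LL (S : Subgroup G) R := hP₀.le.trans (le_sSup ⟨hP₀, h₀⟩)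
  have hRV := le_V_LL hR hG hF hne
  set C : Subgroup G := (S : Subgroup G) ⊓ centralizer (R : Set G) with hC
  have hCn : LL (S : Subgroup G) R ≤ normalizer (C : Set G) := LL_cs hR
  have hC2 : IsPGroup 2 C := S.isPGroup'.to_le inf_le_left
  have hRS : R ≤ (S : Subgroup G) := hR.nn.le
  have hZC : zc (S : Subgroup G) ≤ C := by
    refine le_inf (zc_le _) fun z hz => mem_centralizer_iff.2 fun r hr => ?_
    exact (mem_zc.1 hz).2.1 r (hRS hr)
  have hC0 : C ≠ ⊥ := by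
    intro h0
    exact MinSimple.Basic.zc_ne_bot S.isPGroup' (hG.sylow_ne_bot S) (le_bot_iff.1 (h0 ▸ hZC))
  have hloc : IsLoc (S : Subgroup G) (LL (S : Subgroup G) R) := isLoc_of_le_normalizer S hS hC2 hC0 hCn
  have hCo : C ≤ o2 (LL (S : Subgroup G) R) := le_o2 (inf_le_left.trans hS) hC2 hCn
  -- `C` centralises `⟨Z^L⟩`
  have hCZ : C ≤ centralizer (zl (S : Subgroup G) (LL (S : Subgroup G) R) : Set G) := by
    apply cent_symm
    refine zl_le ?_ ?_
    · intro z hz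
      rw [mem_centralizer_iff]
      intro c hc
      exact (mem_zc.1 hz).2.1 c hc.1
    · intro l hl
      rw [mem_normalizer_iff_cj, cj_centralizer, cj_eq_of_mem_normalizer (hCn hl)]
  refine MergeNF.root_of_isLoc hG.char2 hloc ?_ ?_
  · exact (inf_le_inf_left _ (centralizer_le hRV)).trans hCo
  · by_contra h
    obtain ⟨A, hA, ho⟩ := Low.exists_off (hS.trans (le_normalizer_zl _ _)) h
    obtain ⟨X, hXA, hb, hne'⟩ := exists_best ho
    have h1 : X ≤ centralizer (R : Set G) := hR.nn.best (hXA.trans hA) hRV hb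
    exact hne' ((le_inf (hXA.trans hA) h1).trans hCZ)

end inv

/-- **`⟨Z^L⟩ ≤ Q`** in box R, not (A), `L = LL S (RR S)`. -/
theorem zl_LL_le (T : Parts.{u}) (hG : Ctx G) (hF : Full (S : Subgroup G)) (D : Data (S : Subgroup G))
    (hA : ¬ CaseA (S : Subgroup G))
    (hex : ∃ R, IsParS (S : Subgroup G) R ∧ zc (S : Subgroup G) ⊓ centralizer (R : Set G) ≠ ⊥)
    (hne : RR (S : Subgroup G) ≠ ⊥) :
    zl (S : Subgroup G) (LL (S : Subgroup G) (RR (S : Subgroup G))) ≤ o2 (CZ (S : Subgroup G)) := by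
  set R := RR (S : Subgroup G) with hRdef
  have hR : Inv (S : Subgroup G) R := inv_RR _
  by_contra hlow
  obtain ⟨P₀, hP₀, h₀⟩ := LL_ex hR hG hF hne
  have hc : 2 < Nat.card (zc (S : Subgroup G)) := by
    obtain ⟨P, hP, hz⟩ := hex
    exact card_zc hP hz
  -- the part of `Z` in `R`
  have hZ0 : R ⊓ zc (S : Subgroup G) ≠ ⊥ := by
    intro h0
    apply hne
    rw [eq_bot_iff]
    refine hR.gen.trans ?_
    rw [h0]
    refine NoFF.Basic.V_le fun p _ => ?_
    rw [show MulAut.conj p • (⊥ : Subgroup G) = ⊥ from Subgroup.map_bot _]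
  obtain ⟨V, F, B, P, hP, s⟩ := FL.exists_sit (Fa := {P | IsParS (S : Subgroup G) P ∧
    (S : Subgroup G) ⊓ centralizer (R : Set G) ≤ o2 P}) hG D hA (fun P hP => hP.1) ⟨P₀, hP₀, h₀⟩
    (root_LL hR hG hF hne) hc hlow
  obtain ⟨K, i1, i2, i3, k, hk, ⟨N⟩, -⟩ := key T s.toSitR
  obtain ⟨z, hz, hz1⟩ := (R ⊓ zc (S : Subgroup G)).bot_or_exists_ne_one.resolve_left hZ0
  -- `Z ≤ R`
  have hZR : zc (S : Subgroup G) ≤ R := by
    intro z' hz'
    by_cases h1 : z' = 1
    · rw [h1]; exact one_mem _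
    · obtain ⟨p, hp, e⟩ := Low.Full.exists_conj N (le_normalizer_zl _ _) (zc_le_zl _ _) hz.2 hz1
        (zc_le_zl _ _ hz') (Low.Full.full_of_zc N (zc_le_zl _ _) hz' h1).2
      rw [e]
      exact (mem_normalizer_iff.1 (par hR hP.1 hp) z).1 hz.1
  -- `V* = R` is not FF
  have hVR : zl (S : Subgroup G) (MZ (S : Subgroup G)) ≤ R := zl_le hZR hR.ys
  have hRV : R ≤ zl (S : Subgroup G) (MZ (S : Subgroup G)) := hR.le_zl
  have hff : ¬ FFMod (S : Subgroup G) (MZ (S : Subgroup G)) := by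
    rintro ⟨A, hA', ho⟩
    rw [le_antisymm hVR hRV] at ho
    exact hR.nn.nff A hA' ho
  have hLM : LL (S : Subgroup G) R ≤ MZ (S : Subgroup G) := sSup_le fun _ hP => le_YS hP.1
  exact hlow ((NOThreeL.Star.zl_mono (S : Subgroup G) hLM).trans (low_of T hG hF D hA hex hff))

/-- **`RR S ≤ Q`** in box R, not (A). -/
theorem rr_le (T : Parts.{u}) (hG : Ctx G) (hF : Full (S : Subgroup G)) (D : Data (S : Subgroup G))
    (hA : ¬ CaseA (S : Subgroup G))
    (hex : ∃ R, IsParS (S : Subgroup G) R ∧ zc (S : Subgroup G) ⊓ centralizer (R : Set G) ≠ ⊥) :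
    RR (S : Subgroup G) ≤ o2 (CZ (S : Subgroup G)) := by
  by_cases hne : RR (S : Subgroup G) = ⊥
  · rw [hne]
    exact bot_le
  · exact (le_V_LL (inv_RR (S : Subgroup G)) hG hF hne).trans (zl_LL_le T hG hF D hA hex hne)

end Cfsg.Agent.Omega.NOThreeL.RLow.RRLow
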